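import Groth.Agent.EtContLib.PreLim

/-!
# The system of inverse images of one sheaf
-/

set_option autoImplicit false
set_option linter.unusedSectionVars false
set_option linter.style.haveILetI false
set_option backward.isDefEq.respectTransparency false
set_option backward.isDefEq.respectTransparency.types false
set_option synthInstance.maxHeartbeats 400000
set_option maxHeartbeats 1000000

universe u

open CategoryTheory CategoryTheory.Limits CategoryTheory.Abelian AlgebraicGeometry Opposite DescSecLib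
open Groth.Agent.EtShLib

noncomputable section

namespace EtContLib

theorem theta_eq_c {S : Scheme.{u}} (F₀ : EtCoh.Ab S) {U V : Over S} (φ : U ⟶ V) :
    adjL φ.left (etSys.k F₀ φ) = (etSys.c φ.left V.hom U.hom (Over.w φ)).app F₀ := by
  apply ((EtCoh.pullPushAdj φ.left).homEquiv _ _).injective
  apply ((EtCoh.pullPushAdj V.hom).homEquiv _ _).injective
  rw [adjL, Equiv.apply_symm_apply]
  exact (etSys.homEquiv_k F₀ φ).trans (etSys.homEquiv_c φ.left V.hom U.hom (Over.w φ) F₀).symm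

theorem isIso_theta {S : Scheme.{u}} (F₀ : EtCoh.Ab S) {U V : Over S} (φ : U ⟶ V) :
    IsIso (adjL φ.left (etSys.k F₀ φ)) := by
  rw [theta_eq_c, ← EtSliceLib.pullComp_inv_eq]
  infer_instance

theorem ext_eq_zero_of_comp {C : Type*} [Category C] [Abelian C] [HasExt.{u + 1} C] {X A B : C} {n : ℕ}
    (x : Ext.{u + 1} X A n) (g : A ⟶ B) (hg : IsIso g) (h : x.comp (Ext.mk₀ g) (add_zero n) = 0) : x = 0 := by
  have h1 := congrArg (fun y => Ext.comp y (Ext.mk₀ (inv g)) (add_zero n)) h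
  simp only [Ext.zero_comp] at h1
  rwa [Ext.comp_assoc_of_second_deg_zero, Ext.mk₀_comp_mk₀, IsIso.hom_inv_id, Ext.comp_mk₀_id] at h1

theorem HpullVia_eq {X Y S : Scheme.{u}} (F₀ : EtCoh.Ab S) (f : X ⟶ Y) (t : Y ⟶ S) (f₀ : X ⟶ S) (w : f ≫ t = f₀)
    [PreservesFiniteLimits (EtCoh.pull f)] (p : ℕ) (x : EtCoh.H Y ((EtCoh.pull t).obj F₀) p) :
    EtCore.HpullVia f t f₀ w F₀ p x = EtLim.HpullThen f ((EtCoh.pull t).obj F₀)
      (adjL f (etSys.k F₀ (Over.homMk f w : Over.mk f₀ ⟶ Over.mk t))) p x := by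
  refine Eq.trans ?_ (congrArg (fun s => EtLim.HpullThen f ((EtCoh.pull t).obj F₀) s p x)
    (theta_eq_c F₀ (Over.homMk f w : Over.mk f₀ ⟶ Over.mk t))).symm
  show _ = EtLim.HpullThen f ((EtCoh.pull t).obj F₀) ((etSys.c f t f₀ w).app F₀) p x
  rw [← EtSliceLib.pullComp_inv_eq]
  rfl

theorem Hpull_eq_zero {X Y S : Scheme.{u}} (F₀ : EtCoh.Ab S) (f : X ⟶ Y) (t : Y ⟶ S) (f₀ : X ⟶ S) (w : f ≫ t = f₀)
    [PreservesFiniteLimits (EtCoh.pull f)] (p : ℕ) (x : EtCoh.H Y ((EtCoh.pull t).obj F₀) p)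
    (h : EtLim.HpullThen f ((EtCoh.pull t).obj F₀)
      (adjL f (etSys.k F₀ (Over.homMk f w : Over.mk f₀ ⟶ Over.mk t))) p x = 0) : EtCore.Hpull f _ p x = 0 := by
  exact ext_eq_zero_of_comp _ _ (isIso_theta F₀ (Over.homMk f w : Over.mk f₀ ⟶ Over.mk t)) h

variable {I : Type u} [SmallCategory I] {D : I ⥤ Scheme.{u}} {S : Scheme.{u}} (F₀ : EtCoh.Ab S)
  (t : D ⟶ (Functor.const I).obj S)

/-- A stage over the base. -/
abbrev stg (j : I) : Over S := Over.mk (t.app j)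

/-- A transition over the base. -/
abbrev stgMap {k j : I} (a : k ⟶ j) : stg t k ⟶ stg t j :=
  Over.homMk (D.map a) ((t.naturality a).trans (Category.comp_id _))

/-- The system of inverse images. -/
def pullPre : PreSys D where
  F j := (EtCoh.pull (t.app j)).obj F₀
  τ a := etSys.k F₀ (stgMap t a)
  comp := fun {l k j} e a b hb =>
    etSys.k_comp F₀ (stgMap t e) (stgMap t a) (D.map b) ((D.map_comp e a).symm.trans (congrArg D.map hb))
      (stgMap t b) rfl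

variable (c : Cone D) (f₀ : c.pt ⟶ S) (w : ∀ j, c.π.app j ≫ t.app j = f₀)

/-- The cone point over the base. -/
abbrev stgPt (j : I) : Over.mk f₀ ⟶ stg t j := Over.homMk (c.π.app j) (w j)

/-- The maps to the inverse image at the cone point. -/
def pullPsi (j : I) : (pullPre F₀ t).F j ⟶ (EtCoh.push (c.π.app j)).obj ((EtCoh.pull f₀).obj F₀) :=
  etSys.k F₀ (stgPt t c f₀ w j)

theorem pullPsi_compat {k j : I} (a : k ⟶ j) :
    (pullPre F₀ t).τ a ≫ (EtCoh.push (D.map a)).map (pullPsi F₀ t c f₀ w k) =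
      pullPsi F₀ t c f₀ w j ≫ (etPc (c.π.app k) (D.map a) (c.π.app j) (c.w a)).app _ :=
  etSys.k_comp F₀ (stgPt t c f₀ w k) (stgMap t a) (c.π.app j) (c.w a) (stgPt t c f₀ w j) rfl

theorem HpullVia_eq_psi (j : I) [PreservesFiniteLimits (EtCoh.pull (c.π.app j))] (p : ℕ)
    (x : EtCoh.H (D.obj j) ((pullPre F₀ t).F j) p) :
    EtCore.HpullVia (c.π.app j) (t.app j) f₀ (w j) F₀ p x =
      EtLim.HpullThen (c.π.app j) ((pullPre F₀ t).F j) (adjL (c.π.app j) (pullPsi F₀ t c f₀ w j)) p x :=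
  HpullVia_eq F₀ (c.π.app j) (t.app j) f₀ (w j) p x

theorem Hpull_eq_zero_of_τ {k j : I} (a : k ⟶ j) [PreservesFiniteLimits (EtCoh.pull (D.map a))] (p : ℕ)
    (x : EtCoh.H (D.obj j) ((pullPre F₀ t).F j) p)
    (h : EtLim.HpullThen (D.map a) ((pullPre F₀ t).F j) (adjL (D.map a) ((pullPre F₀ t).τ a)) p x = 0) :
    EtCore.Hpull (D.map a) ((EtCoh.pull (t.app j)).obj F₀) p x = 0 :=
  Hpull_eq_zero F₀ (D.map a) (t.app j) (t.app k) ((t.naturality a).trans (Category.comp_id _)) p x h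

theorem isLim_pullPre [IsCofiltered I] :
    ((pullPre F₀ t).coc ((EtCoh.pull f₀).obj F₀) (pullPsi F₀ t c f₀ w)
      (fun {k j} a => pullPsi_compat F₀ t c f₀ w a)).IsLim := by
  haveI : IsConnected Iᵒᵖ := IsFiltered.isConnected Iᵒᵖ
  haveI : ∀ i, IsIso (adjL (c.π.app i) (pullPsi F₀ t c f₀ w i)) := fun i => isIso_theta F₀ (stgPt t c f₀ w i)
  let G := (EtCoh.pull f₀).obj F₀
  let θ : (constCocone Iᵒᵖ G).pt ⟶ G := 𝟙 G
  haveI : IsIso θ := IsIso.id G
  refine (pullPre F₀ t).isLim_coc G (pullPsi F₀ t c f₀ w) (fun {k j} a => pullPsi_compat F₀ t c f₀ w a)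
    ((Functor.const Iᵒᵖ).obj G) (constCocone Iᵒᵖ G) (isColimitConstCocone Iᵒᵖ G) θ (pullPsi F₀ t c f₀ w)
    (fun i => ?_) (fun {k i} a => ?_)
  · show pullPsi F₀ t c f₀ w i ≫ (EtCoh.push (c.π.app i)).map (𝟙 G ≫ 𝟙 G) = _
    rw [Category.comp_id]
    exact (congrArg (pullPsi F₀ t c f₀ w i ≫ ·) ((EtCoh.push (c.π.app i)).map_id G)).trans (Category.comp_id _)
  · show _ = (pullPsi F₀ t c f₀ w i ≫ (EtCoh.push (c.π.app i)).map (𝟙 G)) ≫ _
    rw [CategoryTheory.Functor.map_id, Category.comp_id]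
    exact pullPsi_compat F₀ t c f₀ w a

end EtContLib
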