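import Groth.Agent.EtContLib.System

/-!
# Continuity of étale cohomology along affine limits
-/

set_option autoImplicit false
set_option linter.unusedSectionVars false
set_option linter.style.haveILetI false
set_option backward.isDefEq.respectTransparency false
set_option backward.isDefEq.respectTransparency.types false
set_option synthInstance.maxHeartbeats 400000
set_option maxHeartbeats 1000000

universe u

open CategoryTheory CategoryTheory.Limits CategoryTheory.Abelian AlgebraicGeometry Opposite DescSecLib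
open Groth.Agent.EtShLib

noncomputable section

namespace EtContLib

attribute [local instance] EtSliceLib.pullExact

variable {I : Type u} [SmallCategory I] [IsCofiltered I] {D : I ⥤ Scheme.{u}} {c : Cone D} (hc : IsLimit c)
  [∀ (i j : I) (f : i ⟶ j), IsAffineHom (D.map f)]
  [∀ i, CompactSpace (D.obj i)] [∀ i, QuasiSeparatedSpace (D.obj i)]

include hc in
theorem exists_hmap_zero_deg {P : Sheaf (topology D) AddCommGrpCat.{u + 1}} {C : Coc c P} (hC : C.IsLim)
    (ξ : EtCoh.H c.pt C.G 0) : ∃ (i : I) (x : EtCoh.H (D.obj i) ((fib i).obj P) 0), hmap C i 0 x = ξ := by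
  obtain ⟨i⟩ := IsCofiltered.nonempty (C := I)
  let A : Obj D := (incl D i).obj (EtCoh.top (D.obj i))
  haveI : CompactSpace A.V.left := inferInstanceAs (CompactSpace (D.obj i))
  haveI : QuasiSeparatedSpace A.V.left := inferInstanceAs (QuasiSeparatedSpace (D.obj i))
  obtain ⟨k, a, s, hs⟩ := exists_stage_lift hc hC A (C.G.obj.map (EtCore.bcTopIso (c.π.app i)).hom.op (sec ξ))
  let τ : (incl D k).obj (EtCoh.top (D.obj k)) ⟶ bcObj A a := (incl D k).map (EtCore.bcTopIso (D.map a)).inv
  obtain ⟨x, hx⟩ := sec_surjective (G := (fib k).obj P) (P.obj.map τ.op s)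
  refine ⟨k, x, sec_injective ?_⟩
  refine (sec_HpullThen (c.π.app k) (C.comp k) x).trans ?_
  rw [hx]
  show C.G.obj.map (EtCore.bcTopIso (c.π.app k)).inv.op
    (C.η.app (op ((incl D k).obj (EtCoh.top (D.obj k)))) (P.obj.map τ.op s)) = _
  rw [C.η_nat, hs, gmap_map, gmap_map, gmap_map]
  refine (congrArg (fun q => C.G.obj.map (Quiver.Hom.op q) (sec ξ))
    ((EtCore.topIsTerminal c.pt).hom_ext _ (𝟙 (EtCoh.top c.pt)))).trans ?_
  rw [op_id, C.G.obj.map_id]
  rfl

include hc in
theorem tmap_eq_zero_of_hmap_zero_deg {P : Sheaf (topology D) AddCommGrpCat.{u + 1}} {C : Coc c P} (hC : C.IsLim)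
    (i : I) (x : EtCoh.H (D.obj i) ((fib i).obj P) 0) (h : hmap C i 0 x = 0) :
    ∃ (k : I) (a : k ⟶ i), tmap P a 0 x = 0 := by
  let A : Obj D := (incl D i).obj (EtCoh.top (D.obj i))
  haveI : CompactSpace A.V.left := inferInstanceAs (CompactSpace (D.obj i))
  have h0 : C.η.app (op A) (sec x) = 0 := by
    have h1 := (sec_HpullThen (c.π.app i) (C.comp i) x).symm.trans ((congrArg sec h).trans sec_zero)
    exact (ConcreteCategory.bijective_of_isIso (C.G.obj.map (EtCore.bcTopIso (c.π.app i)).inv.op)).1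
      (h1.trans (map_zero _).symm)
  obtain ⟨k, a, ha⟩ := exists_stage_zero hc hC A (sec x) h0
  refine ⟨k, a, sec_eq_zero ((sec_HpullThen (D.map a) (trans P a) x).trans ?_)⟩
  show ((fib k).obj P).obj.map _ (P.obj.map (cart A a).op (sec x)) = 0
  rw [ha, map_zero]

include hc in
theorem subsingleton_fib_injective (J : Sheaf (topology D) AddCommGrpCat.{u + 1}) [Injective J] (i : I) (n : ℕ) :
    Subsingleton (EtCoh.H (D.obj i) ((fib i).obj J) (n + 1)) :=
  subsingleton_H_cechAcyclicQ n _ (cechAcyclicQ_fib J i)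

include hc in
theorem subsingleton_lam_injective (J : Sheaf (topology D) AddCommGrpCat.{u + 1}) [Injective J] (n : ℕ) :
    Subsingleton (EtCoh.H c.pt (lam c J).G (n + 1)) := by
  obtain ⟨i⟩ := IsCofiltered.nonempty (C := I)
  haveI := isAffineHom_π_app D c hc i
  haveI : CompactSpace c.pt := QuasiCompact.compactSpace_of_compactSpace (c.π.app i)
  haveI : QuasiSeparatedSpace c.pt := quasiSeparatedSpace_of_quasiSeparated (c.π.app i)
  exact subsingleton_H_cechAcyclicQ n _ (cechAcyclicQ_limit hc (isLim_lam c J))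

/-- Continuity in degree `n`. -/
def Cont (c : Cone D) (n : ℕ) : Prop :=
  ∀ (P : Sheaf (topology D) AddCommGrpCat.{u + 1}),
    (∀ ξ : EtCoh.H c.pt (lam c P).G n, ∃ (i : I) (x : EtCoh.H (D.obj i) ((fib i).obj P) n), hmap (lam c P) i n x = ξ) ∧
    (∀ (i : I) (x : EtCoh.H (D.obj i) ((fib i).obj P) n), hmap (lam c P) i n x = 0 →
      ∃ (k : I) (a : k ⟶ i), tmap P a n x = 0)

include hc in
theorem cont : ∀ n, Cont c n
  | 0 => fun P => ⟨exists_hmap_zero_deg hc (isLim_lam c P), tmap_eq_zero_of_hmap_zero_deg hc (isLim_lam c P)⟩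
  | n + 1 => fun P => by
    have IH := cont n
    let S : ShortComplex (Sheaf (topology D) AddCommGrpCat.{u + 1}) :=
      ShortComplex.mk (Injective.ι P) (cokernel.π (Injective.ι P)) (cokernel.condition _)
    have hS : S.ShortExact :=
      { exact := ShortComplex.exact_of_g_is_cokernel _ (cokernelIsCokernel (Injective.ι P))
        mono_f := inferInstanceAs (Mono (Injective.ι P))
        epi_g := inferInstanceAs (Epi (cokernel.π (Injective.ι P))) }
    haveI : Injective S.X₂ := inferInstanceAs (Injective (Injective.under P))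
    refine ⟨fun ξ => ?_, fun i x hx => ?_⟩
    · haveI := subsingleton_lam_injective hc S.X₂ n
      obtain ⟨y, hy⟩ := Ext.covariant_sequence_exact₁ _ (shortExact_lamSC (c := c) hS) ξ
        (Subsingleton.elim _ _) rfl
      obtain ⟨i, z, hz⟩ := (IH S.X₃).1 y
      refine ⟨i, Ext.comp z (shortExact_fib hS i).extClass rfl, ?_⟩
      exact (hmap_delta hS i z).trans ((congrArg (fun t => Ext.comp t _ rfl) hz).trans hy)
    · obtain ⟨y, hy⟩ := Ext.covariant_sequence_exact₁ _ (shortExact_fib hS i) x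
        (@Subsingleton.elim _ (subsingleton_fib_injective hc S.X₂ i n) _ _) rfl
      have hd : Ext.comp (hmap (lam c S.X₃) i n y) (shortExact_lamSC (c := c) hS).extClass rfl = 0 :=
        (hmap_delta hS i y).symm.trans ((congrArg (hmap (lam c S.X₁) i (n + 1)) hy).trans hx)
      obtain ⟨ξ, hξ⟩ := Ext.covariant_sequence_exact₃ _ (shortExact_lamSC (c := c) hS) _ rfl hd
      obtain ⟨k₀, z, hz⟩ := (IH S.X₂).1 ξ
      obtain ⟨k, a, b, -⟩ := IsCofilteredOrEmpty.cone_objs i k₀
      let w : EtCoh.H (D.obj k) ((fib k).obj S.X₃) n :=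
        (tmap S.X₂ b n z).comp (Ext.mk₀ ((fib k).map S.g)) (add_zero n)
      have hw : hmap (lam c S.X₃) k n (tmap S.X₃ a n y - w) = 0 := by
        rw [map_sub, hmap_tmap, hmap_lamMap, hmap_tmap, hz, sub_eq_zero]
        exact hξ.symm
      obtain ⟨l, e, he⟩ := (IH S.X₃).2 k _ hw
      rw [map_sub, sub_eq_zero, tmap_tmap, tmap_postcomp, tmap_tmap] at he
      refine ⟨l, e ≫ a, ?_⟩
      rw [← hy]
      refine (tmap_delta hS (e ≫ a) y).trans ?_
      rw [he, Ext.comp_assoc_of_second_deg_zero]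
      refine (congrArg (fun t => Ext.comp _ t rfl) ((shortExact_fib hS l).comp_extClass)).trans ?_
      exact Ext.comp_zero _ _ _ _ _

include hc in
theorem surjective {P : Sheaf (topology D) AddCommGrpCat.{u + 1}} (C : Coc c P) (hC : C.IsLim) (n : ℕ)
    (ξ : EtCoh.H c.pt C.G n) : ∃ (i : I) (x : EtCoh.H (D.obj i) ((fib i).obj P) n), hmap C i n x = ξ := by
  haveI := isIso_lamDesc c C hC
  obtain ⟨i, x, hx⟩ := (cont hc n P).1 (ξ.comp (Ext.mk₀ (inv (lamDesc c C))) (add_zero n))
  refine ⟨i, x, (hmap_lamDesc C i n x).trans ?_⟩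
  rw [hx, Ext.comp_assoc_of_second_deg_zero, Ext.mk₀_comp_mk₀, IsIso.inv_hom_id, Ext.comp_mk₀_id]

include hc in
theorem eq_zero {P : Sheaf (topology D) AddCommGrpCat.{u + 1}} (C : Coc c P) (hC : C.IsLim) (n : ℕ)
    (i : I) (x : EtCoh.H (D.obj i) ((fib i).obj P) n) (h : hmap C i n x = 0) :
    ∃ (k : I) (a : k ⟶ i), tmap P a n x = 0 := by
  haveI := isIso_lamDesc c C hC
  refine (cont hc n P).2 i x ?_
  have h1 := (congrArg (fun t => Ext.comp t (Ext.mk₀ (inv (lamDesc c C))) (add_zero n))
    ((hmap_lamDesc C i n x).symm.trans h))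
  simpa [Ext.comp_assoc_of_second_deg_zero] using h1

end EtContLib
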