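import Groth.Agent.EtContLib.OfSys
import Groth.Agent.EtContLib.Main

/-!
# The system of direct images of a sheaf at the cone point
-/

set_option autoImplicit false
set_option linter.unusedSectionVars false
set_option linter.style.haveILetI false
set_option backward.isDefEq.respectTransparency false
set_option backward.isDefEq.respectTransparency.types false
set_option synthInstance.maxHeartbeats 400000
set_option maxHeartbeats 1000000

universe u

open CategoryTheory CategoryTheory.Limits CategoryTheory.Abelian AlgebraicGeometry Opposite DescSecLib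
open Groth.Agent.EtShLib

noncomputable section

namespace EtContLib

attribute [local instance] EtSliceLib.pullExact

theorem pushCongr_pc {A B C : Scheme.{u}} (a : A ⟶ B) (b : B ⟶ C) (c : A ⟶ C) (w : c = a ≫ b) (G : EtCoh.Ab A) :
    (EtCoh.pushCongr w).hom.app G ≫ (etPc a b (a ≫ b) rfl).app G = (etPc a b c w.symm).app G := by
  subst w
  have h : (EtCoh.pushCongr (rfl : a ≫ b = a ≫ b)).hom.app G = 𝟙 _ := by
    refine Sheaf.hom_ext (NatTrans.ext ?_)
    funext U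
    simp [EtCoh.pushCongr, Functor.sheafPushforwardContinuousIso]
    refine (congrArg G.obj.map (congrArg Quiver.Hom.op (?_ : _ = 𝟙 _))).trans (G.obj.map_id _)
    refine MorphismProperty.Over.Hom.ext ?_
    apply pullback.hom_ext <;> simp [MorphismProperty.Over.pullbackCongr] <;> exact (Category.id_comp _).symm
  rw [h, Category.id_comp]

theorem HofPush_eq {X Y : Scheme.{u}} (f : X ⟶ Y) (F : EtCoh.Ab X) (n : ℕ) (x : EtCoh.H Y ((EtCoh.push f).obj F) n) :
    EtLim.HofPush f F n x = EtLim.HpullThen f _ (adjL f (𝟙 ((EtCoh.push f).obj F))) n x := by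
  rw [show adjL f (𝟙 ((EtCoh.push f).obj F)) = (EtCoh.pullPushAdj f).counit.app F from
    Adjunction.homEquiv_symm_id _ _]
  rfl

theorem HpushTrans_eq {X Xi Xj : Scheme.{u}} (uij : Xj ⟶ Xi) (uj : X ⟶ Xj) (ui : X ⟶ Xi) (w : uj ≫ uij = ui)
    (F : EtCoh.Ab X) (n : ℕ) (x : EtCoh.H Xi ((EtCoh.push ui).obj F) n) :
    EtLim.HpushTrans uij uj ui w F n x =
      EtLim.HpullThen uij _ (adjL uij ((etPc uj uij ui w).app F)) n x := by
  refine (HofPush_eq uij _ n _).trans ((HpullThen_postcomp uij ((etPc uj uij ui w).app F) (𝟙 _)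
    (((EtCoh.pushCongr w.symm).app F).hom ≫ (EtCoh.pushComp uij uj).inv.app F) (𝟙 _) ?_ n x).trans (Ext.comp_mk₀_id _))
  rw [Category.comp_id, EtSliceLib.pushComp_inv_eq, Iso.app_hom]
  exact (pushCongr_pc uj uij ui w.symm F).trans ((Category.comp_id _).symm.trans
    (congrArg ((etPc uj uij ui w).app F ≫ ·) ((EtCoh.push uij).map_id _).symm))

variable {I : Type u} [SmallCategory I] {D : I ⥤ Scheme.{u}} (c : Cone D) (F : EtCoh.Ab c.pt)

theorem pc_ret' {X : Scheme.{u}} {i : I} (f : X ⟶ D.obj i) (w : f ≫ D.map (𝟙 i) = f) (M : EtCoh.Ab X) :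
    (etPc f (D.map (𝟙 i)) f w).app M ≫ rho ((EtCoh.push f).obj M) = 𝟙 _ := by
  refine Sheaf.hom_ext (NatTrans.ext ?_)
  funext V
  show M.obj.map (bcCompHom f (D.map (𝟙 i)) f w V.unop).op ≫ M.obj.map ((EtCoh.bc f).map (ret V.unop)).op = 𝟙 _
  rw [← M.obj.map_comp, ← op_comp]
  refine (congrArg (fun t => M.obj.map (Quiver.Hom.op t)) (?_ : _ = 𝟙 _)).trans (M.obj.map_id _)
  refine DescSecLib.bc_hom_ext _ _ _ ?_
  show (_ ≫ (bcCompHom _ _ _ _ V.unop).left) ≫ _ = _
  rw [Category.assoc, bcCompHom_fst, ← Category.assoc]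
  erw [bc_map_fst]
  rw [Category.assoc, ret_fst]
  exact (Category.comp_id _).trans (Category.id_comp _).symm

/-- The system of direct images. -/
def pushSys : Sys D where
  F j := (EtCoh.push (c.π.app j)).obj F
  τ {k j} a := (etPc (c.π.app k) (D.map a) (c.π.app j) (c.w a)).app F
  comp {l k j} e a :=
    (etSys.pc_assoc (c.π.app l) (D.map e) (D.map a) (c.π.app k) (D.map (e ≫ a)) (c.π.app j) (c.w e)
      (D.map_comp e a).symm (c.w (e ≫ a)) (c.w a) F).symm
  unit i := pc_ret' (c.π.app i) (c.w (𝟙 i)) F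

theorem pushSys_compat {k j : I} (a : k ⟶ j) :
    (pushSys c F).τ a ≫ (EtCoh.push (D.map a)).map (𝟙 ((EtCoh.push (c.π.app k)).obj F)) =
      𝟙 ((EtCoh.push (c.π.app j)).obj F) ≫ (etPc (c.π.app k) (D.map a) (c.π.app j) (c.w a)).app F :=
  ((congrArg ((pushSys c F).τ a ≫ ·) ((EtCoh.push (D.map a)).map_id _)).trans (Category.comp_id _)).trans
    (Category.id_comp _).symm

/-- The sheaf at the cone point as an extension of the system of its direct images. -/
def pushCoc : Coc c (pushSys c F).toSheaf :=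
  (pushSys c F).coc F (fun i => 𝟙 ((EtCoh.push (c.π.app i)).obj F)) fun {k j} a => pushSys_compat c F a

theorem pushCoc_η (A : Obj D) (s : (pushSys c F).toSheaf.obj.obj (op A)) : (pushCoc c F).η.app (op A) s = s := rfl

theorem isLim_pushCoc [IsCofiltered I] (hc : IsLimit c) [∀ (i j : I) (f : i ⟶ j), IsAffineHom (D.map f)]
    [∀ i, CompactSpace (D.obj i)] [∀ i, QuasiSeparatedSpace (D.obj i)] : (pushCoc c F).IsLim := by
  refine ⟨fun Ω _ _ ξ q => ?_, fun Ω _ _ ξ A z s h => ?_⟩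
  · obtain ⟨U₀, u₀, t₀, rfl⟩ := exists_germ (A := AddCommGrpCat.{u + 1}) ξ q
    obtain ⟨U, g, u, hU, rfl⟩ := exists_affine_below' ξ U₀ u₀
    obtain ⟨A, -, -, ⟨e⟩⟩ := exists_obj hc U
    refine ⟨A, u.map e.inv, F.obj.map (e.hom ≫ g).op t₀, ?_⟩
    show germ ξ F ((uF c).obj A) (u.map e.inv) (F.obj.map (e.hom ≫ g).op t₀) = _
    rw [germ_res_apply]
    refine congrArg (fun w => germ ξ F U₀ w t₀) (Fib.ext ?_)
    show (u.hom ≫ e.inv.left) ≫ (e.hom ≫ g).left = u.hom ≫ g.left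
    rw [Category.assoc]
    refine congrArg (u.hom ≫ ·) ?_
    exact congrArg (fun w : U ⟶ U₀ => w.left) (e.inv_hom_id_assoc g)
  · obtain ⟨U₁, g₁, v₁, hv₁, he⟩ := (germ_eq_iff (A := AddCommGrpCat.{u + 1}) (F := F) ξ ((uF c).obj A) z s 0).1
      (h.trans (map_zero _).symm)
    obtain ⟨U, g, v, hU, rfl⟩ := exists_affine_below' ξ U₁ v₁
    obtain ⟨B', hB'c, hB'q, ⟨e⟩⟩ := exists_obj hc U
    obtain ⟨k, a, b, m, hm⟩ := exists_hom hc B' A (e.hom ≫ g ≫ g₁)
    haveI := isIso_uF_cart (c := c) B' a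
    let f : bcObj B' a ⟶ A := (incl D k).map m ≫ cart A b
    have hf : (uF c).map f = (uF c).map (cart B' a) ≫ e.hom ≫ g ≫ g₁ := ((uF c).map_comp _ _).trans hm
    refine ⟨bcObj B' a, f, v.map (e.inv ≫ inv ((uF c).map (cart B' a))), ?_, ?_⟩
    · rw [← hv₁, hf]
      refine Fib.ext ?_
      show (v.hom ≫ (e.inv ≫ inv ((uF c).map (cart B' a))).left) ≫ ((uF c).map (cart B' a) ≫ e.hom ≫ g ≫ g₁).left =
        (v.hom ≫ g.left) ≫ g₁.left
      rw [Category.assoc, Category.assoc]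
      refine congrArg (v.hom ≫ ·) ?_
      refine congrArg (fun w : U ⟶ (uF c).obj A => w.left) (?_ : (e.inv ≫ inv ((uF c).map (cart B' a))) ≫
        ((uF c).map (cart B' a) ≫ e.hom ≫ g ≫ g₁) = g ≫ g₁)
      simp
    · show (pushSys c F).toSheaf.obj.map f.op s = 0
      rw [← pushCoc_η c F (bcObj B' a) ((pushSys c F).toSheaf.obj.map f.op s), (pushCoc c F).η_nat, pushCoc_η]
      show F.obj.map ((uF c).map f).op s = 0
      rw [hf, op_comp, op_comp, op_comp]
      simp only [Functor.map_comp, ConcreteCategory.comp_apply]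
      rw [he, map_zero, map_zero, map_zero, map_zero]

theorem Sys.surjective' {P : Sys D} {G : EtCoh.Ab c.pt} {ψ : ∀ i, P.F i ⟶ (EtCoh.push (c.π.app i)).obj G}
    (hψ : ∀ {k j : I} (a : k ⟶ j), P.τ a ≫ (EtCoh.push (D.map a)).map (ψ k) =
      ψ j ≫ (etPc (c.π.app k) (D.map a) (c.π.app j) (c.w a)).app G)
    [IsCofiltered I] (hc : IsLimit c) [∀ (i j : I) (f : i ⟶ j), IsAffineHom (D.map f)]
    [∀ i, CompactSpace (D.obj i)] [∀ i, QuasiSeparatedSpace (D.obj i)]
    (hC : (P.coc G ψ hψ).IsLim) (n : ℕ) (ξ : EtCoh.H c.pt G n) :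
    ∃ (i : I) (x : EtCoh.H (D.obj i) (P.F i) n),
      EtLim.HpullThen (c.π.app i) (P.F i) (adjL (c.π.app i) (ψ i)) n x = ξ := by
  obtain ⟨i, y, hy⟩ := EtContLib.surjective hc _ hC n ξ
  exact ⟨i, y.comp (Ext.mk₀ (P.fibIso i).hom) (add_zero n), (P.hmap_fibIso G ψ hψ i n y).trans hy⟩

theorem Sys.eq_zero' {P : Sys D} {G : EtCoh.Ab c.pt} {ψ : ∀ i, P.F i ⟶ (EtCoh.push (c.π.app i)).obj G}
    (hψ : ∀ {k j : I} (a : k ⟶ j), P.τ a ≫ (EtCoh.push (D.map a)).map (ψ k) =
      ψ j ≫ (etPc (c.π.app k) (D.map a) (c.π.app j) (c.w a)).app G)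
    [IsCofiltered I] (hc : IsLimit c) [∀ (i j : I) (f : i ⟶ j), IsAffineHom (D.map f)]
    [∀ i, CompactSpace (D.obj i)] [∀ i, QuasiSeparatedSpace (D.obj i)]
    (hC : (P.coc G ψ hψ).IsLim) (n : ℕ) (i : I) (x : EtCoh.H (D.obj i) (P.F i) n)
    (h : EtLim.HpullThen (c.π.app i) (P.F i) (adjL (c.π.app i) (ψ i)) n x = 0) :
    ∃ (k : I) (a : k ⟶ i), EtLim.HpullThen (D.map a) (P.F i) (adjL (D.map a) (P.τ a)) n x = 0 := by
  have hx : (x.comp (Ext.mk₀ (P.fibIso i).inv) (add_zero n)).comp (Ext.mk₀ (P.fibIso i).hom) (add_zero n) = x := by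
    rw [Ext.comp_assoc_of_second_deg_zero, Ext.mk₀_comp_mk₀, Iso.inv_hom_id, Ext.comp_mk₀_id]
  obtain ⟨k, a, ha⟩ := EtContLib.eq_zero hc _ hC n i _ ((P.hmap_fibIso G ψ hψ i n _).symm.trans
    ((congrArg _ hx).trans h))
  refine ⟨k, a, ?_⟩
  have h1 := P.tmap_fibIso a n (x.comp (Ext.mk₀ (P.fibIso i).inv) (add_zero n))
  rw [hx, ha, Ext.zero_comp] at h1
  exact h1

end EtContLib
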