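import Groth.Agent.EtAcycLib.Chase
import Groth.Agent.EtSliceLib.Hpull
import Groth.Prelude.Def_EtLim

/-!
# Pull back, then map: calculus of `EtLim.HpullThen`
-/

set_option autoImplicit false
set_option linter.unusedSectionVars false
set_option linter.style.haveILetI false
set_option backward.isDefEq.respectTransparency false
set_option backward.isDefEq.respectTransparency.types false
set_option synthInstance.maxHeartbeats 400000
set_option maxHeartbeats 1000000

universe u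

open CategoryTheory CategoryTheory.Limits CategoryTheory.Abelian AlgebraicGeometry Opposite DescSecLib

noncomputable section

namespace EtContLib

/-- The adjoint of a map to a direct image. -/
abbrev adjL {X Y : Scheme.{u}} (f : X ⟶ Y) {F : EtCoh.Ab Y} {M : EtCoh.Ab X} (φ : F ⟶ (EtCoh.push f).obj M) :
    (EtCoh.pull f).obj F ⟶ M :=
  ((EtCoh.pullPushAdj f).homEquiv F M).symm φ

theorem hpull_comp {A B C : Scheme.{u}} (a : A ⟶ B) (b : B ⟶ C) (c : A ⟶ C) (w : a ≫ b = c)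
    [PreservesFiniteLimits (EtCoh.pull a)] [PreservesFiniteLimits (EtCoh.pull b)]
    [PreservesFiniteLimits (EtCoh.pull c)] (G : EtCoh.Ab C) (n : ℕ) (x : EtCoh.H C G n) :
    Ext.comp (EtCore.Hpull a ((EtCoh.pull b).obj G) n (EtCore.Hpull b G n x))
        (Ext.mk₀ ((etSys.c a b c w).app G)) (add_zero n) = EtCore.Hpull c G n x := by
  haveI : PreservesFiniteColimits (EtCoh.pull a) := EtCore.pull_preservesFiniteColimits a
  haveI : PreservesFiniteColimits (EtCoh.pull b) := EtCore.pull_preservesFiniteColimits b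
  haveI : PreservesFiniteColimits (EtCoh.pull c) := EtCore.pull_preservesFiniteColimits c
  show Ext.comp ((Ext.mk₀ (EtCore.pullConst a ℤ).inv).comp (Ext.mapExactFunctor (EtCoh.pull a)
      ((Ext.mk₀ (EtCore.pullConst b ℤ).inv).comp (Ext.mapExactFunctor (EtCoh.pull b) x) (zero_add n))) (zero_add n))
      _ _ = (Ext.mk₀ (EtCore.pullConst c ℤ).inv).comp (Ext.mapExactFunctor (EtCoh.pull c) x) (zero_add n)
  rw [EtSliceLib.pullConst_inv_eq_etZ, EtSliceLib.pullConst_inv_eq_etZ, EtSliceLib.pullConst_inv_eq_etZ,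
    Ext.mapExactFunctor_comp, Ext.mapExactFunctor_mk₀, ← mapExactFunctor_compFunctor,
    ← Ext.comp_assoc_of_second_deg_zero, Ext.mk₀_comp_mk₀, Ext.comp_assoc_of_third_deg_zero]
  refine (congrArg (fun t => Ext.comp _ t (zero_add n)) (mapExactFunctor_natTrans (etSys.c a b c w) x)).trans ?_
  rw [← Ext.comp_assoc_of_second_deg_zero, Ext.mk₀_comp_mk₀, Category.assoc]
  exact congrArg (fun t => (Ext.mk₀ t).comp _ (zero_add n)) (etSys.z_comp a b c w)

variable {A B C : Scheme.{u}}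

theorem HpullThen_apply (f : A ⟶ B) [PreservesFiniteLimits (EtCoh.pull f)] (F : EtCoh.Ab B) {M : EtCoh.Ab A}
    (α : (EtCoh.pull f).obj F ⟶ M) (n : ℕ) (x : EtCoh.H B F n) :
    EtLim.HpullThen f F α n x = (EtCore.Hpull f F n x).comp (Ext.mk₀ α) (add_zero n) := rfl

theorem HpullThen_postcomp (f : A ⟶ B) [PreservesFiniteLimits (EtCoh.pull f)] {F F' : EtCoh.Ab B}
    {M M' : EtCoh.Ab A} (α : F ⟶ (EtCoh.push f).obj M) (α' : F' ⟶ (EtCoh.push f).obj M') (φ : F ⟶ F')
    (ψ : M ⟶ M') (h : φ ≫ α' = α ≫ (EtCoh.push f).map ψ) (n : ℕ) (x : EtCoh.H B F n) :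
    EtLim.HpullThen f F' (adjL f α') n (x.comp (Ext.mk₀ φ) (add_zero n)) =
      (EtLim.HpullThen f F (adjL f α) n x).comp (Ext.mk₀ ψ) (add_zero n) := by
  have h' : (EtCoh.pull f).map φ ≫ adjL f α' = adjL f α ≫ ψ := by
    rw [adjL, adjL, ← Adjunction.homEquiv_naturality_left_symm, ← Adjunction.homEquiv_naturality_right_symm, h]
  rw [HpullThen_apply, HpullThen_apply, EtAcycLib.Hpull_postcomp, Ext.comp_assoc_of_second_deg_zero,
    Ext.comp_assoc_of_second_deg_zero, Ext.mk₀_comp_mk₀, Ext.mk₀_comp_mk₀, h']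

theorem HpullThen_delta (f : A ⟶ B) [PreservesFiniteLimits (EtCoh.pull f)] {S : ShortComplex (EtCoh.Ab B)}
    (hS : S.ShortExact) {S' : ShortComplex (EtCoh.Ab A)} (hS' : S'.ShortExact)
    (α₁ : S.X₁ ⟶ (EtCoh.push f).obj S'.X₁) (α₂ : S.X₂ ⟶ (EtCoh.push f).obj S'.X₂)
    (α₃ : S.X₃ ⟶ (EtCoh.push f).obj S'.X₃) (h₁ : S.f ≫ α₂ = α₁ ≫ (EtCoh.push f).map S'.f)
    (h₂ : S.g ≫ α₃ = α₂ ≫ (EtCoh.push f).map S'.g) {n : ℕ} (x : EtCoh.H B S.X₃ n) :
    EtLim.HpullThen f S.X₁ (adjL f α₁) (n + 1) (x.comp hS.extClass rfl) =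
      Ext.comp (EtLim.HpullThen f S.X₃ (adjL f α₃) n x) hS'.extClass rfl := by
  haveI : PreservesFiniteColimits (EtCoh.pull f) := EtCore.pull_preservesFiniteColimits f
  let φ : S.map (EtCoh.pull f) ⟶ S' :=
    { τ₁ := adjL f α₁
      τ₂ := adjL f α₂
      τ₃ := adjL f α₃
      comm₁₂ := by
        show adjL f α₁ ≫ S'.f = (EtCoh.pull f).map S.f ≫ adjL f α₂
        rw [adjL, adjL, ← Adjunction.homEquiv_naturality_left_symm, ← Adjunction.homEquiv_naturality_right_symm, h₁]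
      comm₂₃ := by
        show adjL f α₂ ≫ S'.g = (EtCoh.pull f).map S.g ≫ adjL f α₃
        rw [adjL, adjL, ← Adjunction.homEquiv_naturality_left_symm, ← Adjunction.homEquiv_naturality_right_symm, h₂] }
  have hn := ShortComplex.ShortExact.extClass_naturality (hS.map_of_exact (EtCoh.pull f)) hS' φ
  refine (congrArg (fun t => Ext.comp t (Ext.mk₀ (adjL f α₁)) (add_zero (n + 1)))
    (EtAcycLib.Hpull_delta f hS x)).trans ?_
  refine (Ext.comp_assoc_of_third_deg_zero _ _ _ _).trans ?_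
  refine (congrArg (fun t => Ext.comp _ t rfl) hn).trans ?_
  exact (Ext.comp_assoc_of_second_deg_zero _ _ _ _).symm

theorem HpullThen_comp (a : A ⟶ B) (b : B ⟶ C) (c : A ⟶ C) (w : a ≫ b = c)
    [PreservesFiniteLimits (EtCoh.pull a)] [PreservesFiniteLimits (EtCoh.pull b)]
    [PreservesFiniteLimits (EtCoh.pull c)] {F : EtCoh.Ab C} {M : EtCoh.Ab B} {N : EtCoh.Ab A}
    (β : F ⟶ (EtCoh.push b).obj M) (γ : M ⟶ (EtCoh.push a).obj N) (δ : F ⟶ (EtCoh.push c).obj N)
    (h : β ≫ (EtCoh.push b).map γ = δ ≫ (etPc a b c w).app N) (n : ℕ) (x : EtCoh.H C F n) :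
    EtLim.HpullThen a M (adjL a γ) n (EtLim.HpullThen b F (adjL b β) n x) =
      EtLim.HpullThen c F (adjL c δ) n x := by
  let adj := fun {A B : Scheme.{u}} (a : A ⟶ B) => EtCoh.pullPushAdj a
  have key : (EtCoh.pull a).map (adjL b β) ≫ adjL a γ = (etSys.c a b c w).app F ≫ adjL c δ := by
    apply ((adj a).homEquiv _ _).injective
    apply ((adj b).homEquiv _ _).injective
    have l1 : (adj a).homEquiv _ _ ((EtCoh.pull a).map (adjL b β) ≫ adjL a γ) = adjL b β ≫ γ := by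
      rw [Adjunction.homEquiv_naturality_left, adjL, Equiv.apply_symm_apply]
    have l2 : (adj b).homEquiv _ _ (adjL b β ≫ γ) = β ≫ (EtCoh.push b).map γ := by
      rw [Adjunction.homEquiv_naturality_right, adjL, Equiv.apply_symm_apply]
    refine (congrArg ((adj b).homEquiv _ _) l1).trans (l2.trans (h.trans ?_))
    rw [Adjunction.homEquiv_naturality_right, Adjunction.homEquiv_naturality_right]
    erw [etSys.homEquiv_c]
    rw [Category.assoc]
    refine Eq.trans ?_ (congrArg (fun t => (adj c).unit.app F ≫ t) ((etPc a b c w).naturality (adjL c δ)))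
    refine (congrArg (fun t => t ≫ (etPc a b c w).app N)
      (show δ = (adj c).unit.app F ≫ (EtCoh.push c).map (adjL c δ) from
        (Equiv.apply_symm_apply ((adj c).homEquiv F N) δ).symm.trans (Adjunction.homEquiv_unit _ _ _ _))).trans ?_
    exact Category.assoc _ _ _
  rw [HpullThen_apply, HpullThen_apply, HpullThen_apply, EtAcycLib.Hpull_postcomp,
    Ext.comp_assoc_of_second_deg_zero, Ext.mk₀_comp_mk₀, key, ← Ext.mk₀_comp_mk₀,
    ← Ext.comp_assoc_of_second_deg_zero]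
  exact congrArg (fun t => Ext.comp t (Ext.mk₀ (adjL c δ)) (add_zero n)) (hpull_comp a b c w F n x)

/-- The global section attached to a class of degree zero. -/
def sec {Y : Scheme.{u}} {G : EtCoh.Ab Y} (e : EtCoh.H Y G 0) : G.obj.obj (op (EtCoh.top Y)) :=
  (EtCore.gsec Y).map (Ext.homEquiv₀ e) (etOneSec Y ⟨1⟩)

theorem sec_mk₀ {Y : Scheme.{u}} {G : EtCoh.Ab Y} (φ : EtCoh.const Y ℤ ⟶ G) :
    sec (Ext.mk₀ φ) = (EtCore.gsec Y).map φ (etOneSec Y ⟨1⟩) :=
  congrArg (fun t => (EtCore.gsec Y).map t (etOneSec Y ⟨1⟩)) (Ext.homEquiv₀.apply_symm_apply φ)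

theorem exists_mk₀ {Y : Scheme.{u}} {G : EtCoh.Ab Y} (e : EtCoh.H Y G 0) :
    ∃ φ : EtCoh.const Y ℤ ⟶ G, Ext.mk₀ φ = e :=
  ⟨Ext.homEquiv₀ e, Ext.homEquiv₀.symm_apply_apply e⟩

theorem sec_injective {Y : Scheme.{u}} {G : EtCoh.Ab Y} : Function.Injective (sec (G := G)) := by
  intro e e' h
  exact Ext.homEquiv₀.injective (et_ext_Z _ _ h)

theorem sec_surjective {Y : Scheme.{u}} {G : EtCoh.Ab Y} : Function.Surjective (sec (G := G)) := by
  intro t
  let g : AddCommGrpCat.of (ULift.{u + 1} ℤ) ⟶ (EtCore.gsec Y).obj G :=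
    AddCommGrpCat.ofHom ((zmultiplesHom _ t).comp AddEquiv.ulift.toAddMonoidHom)
  refine ⟨Ext.mk₀ (((EtCore.constAdj Y).homEquiv _ _).symm g), ?_⟩
  rw [sec_mk₀]
  have h : etOneSec Y ≫ (EtCore.gsec Y).map (((EtCore.constAdj Y).homEquiv _ _).symm g) = g := by
    rw [← constAdj_homEquiv_apply, Equiv.apply_symm_apply]
  refine (ConcreteCategory.comp_apply _ _ _).symm.trans ((ConcreteCategory.congr_hom h _).trans ?_)
  exact one_zsmul t

theorem sec_zero {Y : Scheme.{u}} {G : EtCoh.Ab Y} : sec (0 : EtCoh.H Y G 0) = 0 := by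
  rw [← Ext.mk₀_zero, sec_mk₀]
  rfl

theorem sec_eq_zero {Y : Scheme.{u}} {G : EtCoh.Ab Y} {e : EtCoh.H Y G 0} (h : sec e = 0) : e = 0 :=
  sec_injective (h.trans sec_zero.symm)

theorem sec_HpullThen (f : A ⟶ B) [PreservesFiniteLimits (EtCoh.pull f)] {F : EtCoh.Ab B} {M : EtCoh.Ab A}
    (α : F ⟶ (EtCoh.push f).obj M) (e : EtCoh.H B F 0) :
    sec (EtLim.HpullThen f F (adjL f α) 0 e) =
      M.obj.map (EtCore.bcTopIso f).inv.op (α.hom.app (op (EtCoh.top B)) (sec e)) := by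
  obtain ⟨φ, rfl⟩ := exists_mk₀ e
  haveI : PreservesFiniteColimits (EtCoh.pull f) := EtCore.pull_preservesFiniteColimits f
  have h : EtLim.HpullThen f F (adjL f α) 0 (Ext.mk₀ φ) =
      Ext.mk₀ ((EtCore.pullConst f ℤ).inv ≫ (EtCoh.pull f).map φ ≫ adjL f α) := by
    show ((Ext.mk₀ (EtCore.pullConst f ℤ).inv).comp (Ext.mapExactFunctor (EtCoh.pull f) (Ext.mk₀ φ)) (zero_add 0)).comp
      (Ext.mk₀ (adjL f α)) (add_zero 0) = _
    rw [Ext.mapExactFunctor_mk₀, Ext.mk₀_comp_mk₀, Ext.mk₀_comp_mk₀, Category.assoc]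
  rw [h, sec_mk₀, sec_mk₀, EtSliceLib.pullConst_inv_eq_etZ, Functor.map_comp, ConcreteCategory.comp_apply]
  refine (congrArg ((EtCore.gsec A).map ((EtCoh.pull f).map φ ≫ adjL f α)) (etSys.z_one f)).trans ?_
  refine (NatTrans.naturality_apply (etσ f) ((EtCoh.pull f).map φ ≫ adjL f α) _).symm.trans ?_
  show M.obj.map (EtCore.bcTopIso f).inv.op
      ((EtCore.gsec B).map ((EtCoh.push f).map ((EtCoh.pull f).map φ ≫ adjL f α))
        ((EtCore.gsec B).map ((EtCoh.pullPushAdj f).unit.app _) (etOneSec B ⟨1⟩))) = _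
  refine congrArg (M.obj.map (EtCore.bcTopIso f).inv.op) ?_
  have hu : (EtCoh.pullPushAdj f).unit.app _ ≫ (EtCoh.push f).map ((EtCoh.pull f).map φ ≫ adjL f α) = φ ≫ α := by
    refine (Adjunction.homEquiv_unit _ _ _ ((EtCoh.pull f).map φ ≫ adjL f α)).symm.trans ?_
    rw [Adjunction.homEquiv_naturality_left, adjL, Equiv.apply_symm_apply]
  exact ConcreteCategory.congr_hom (congrArg (fun t => (EtCore.gsec B).map t) hu) (etOneSec B ⟨1⟩)

end EtContLib
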