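import Groth.Agent.EtContLib.OfSys

/-!
# Colimits of pullbacks are limits of systems
-/

set_option autoImplicit false
set_option linter.unusedSectionVars false
set_option linter.style.haveILetI false
set_option backward.isDefEq.respectTransparency false
set_option backward.isDefEq.respectTransparency.types false
set_option synthInstance.maxHeartbeats 400000
set_option maxHeartbeats 1000000

universe u

open CategoryTheory CategoryTheory.Limits CategoryTheory.Abelian AlgebraicGeometry Opposite DescSecLib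
open Groth.Agent.EtShLib

noncomputable section

namespace EtContLib

theorem germ_adjL {X Y : Scheme.{u}} (f : X ⟶ Y) {F : EtCoh.Ab Y} {M : EtCoh.Ab X} (φ : F ⟶ (EtCoh.push f).obj M)
    {Ω : Type u} [Field Ω] [IsSepClosed Ω] (ξ : Spec (CommRingCat.of Ω) ⟶ X) (U : Y.Etale) (v : Fib (ξ ≫ f) U)
    (s : F.obj.obj (op U)) :
    (stk ξ).map (adjL f φ) ((stalkPull f ξ AddCommGrpCat.{u + 1}).hom.app F (germ (ξ ≫ f) F U v s)) =
      germ ξ M ((EtCoh.bc f).obj U) (Fib.lift f ξ v) (φ.hom.app (op U) s) := by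
  have h1 := ConcreteCategory.congr_hom (germ_stalkPull f ξ AddCommGrpCat.{u + 1} F U v) s
  rw [ConcreteCategory.comp_apply, ConcreteCategory.comp_apply] at h1
  refine (congrArg ((stk ξ).map (adjL f φ)) h1).trans ?_
  refine (germ_natural_apply ξ (adjL f φ) _ _ _).trans (congrArg (germ ξ M _ (Fib.lift f ξ v)) ?_)
  have h2 : (EtCoh.pullPushAdj f).unit.app F ≫ (EtCoh.push f).map (adjL f φ) = φ :=
    (Adjunction.homEquiv_unit _ _ _ _).symm.trans (Equiv.apply_symm_apply _ φ)
  exact ConcreteCategory.congr_hom (congrArg (fun t : F ⟶ (EtCoh.push f).obj M => t.hom.app (op U)) h2) s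

variable {I : Type u} [SmallCategory I] [IsCofiltered I] {D : I ⥤ Scheme.{u}} {c : Cone D}
  {P : Sheaf (topology D) AddCommGrpCat.{u + 1}}

local instance : PreservesFilteredColimitsOfSize.{u, u} (forget AddCommGrpCat.{u + 1}) := inferInstance

theorem germ_bcCompHom (M : EtCoh.Ab c.pt) {k i : I} (a : k ⟶ i) {V : (D.obj i).Etale} {Ω : Type u} [Field Ω]
    [IsSepClosed Ω] {ξ : Spec (CommRingCat.of Ω) ⟶ c.pt} (z : Fib ξ ((uF c).obj ((incl D i).obj V)))
    (t : M.obj.obj (op ((EtCoh.bc (c.π.app i)).obj V))) :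
    germ ξ M ((EtCoh.bc (c.π.app k)).obj ((EtCoh.bc (D.map a)).obj V)) (restrFib z a)
        (M.obj.map (bcCompHom (c.π.app k) (D.map a) (c.π.app i) (c.w a) V).op t) =
      germ ξ M ((EtCoh.bc (c.π.app i)).obj V) z t := by
  rw [germ_res_apply, show bcCompHom (c.π.app k) (D.map a) (c.π.app i) (c.w a) V =
    (uF c).map (cart ((incl D i).obj V) a) from DescSecLib.bc_hom_ext _ _ _
      ((bcCompHom_fst (c.π.app k) (D.map a) (c.π.app i) (c.w a) V).trans (uF_map_fst c (cart ((incl D i).obj V) a)).symm)]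
  exact congrArg (fun w => germ ξ M ((EtCoh.bc (c.π.app i)).obj V) w t) (restrFib_map z a)

theorem isLim_of_colimit (C : Coc c P) (K : Iᵒᵖ ⥤ EtCoh.Ab c.pt) (cc : Cocone K) (hcc : IsColimit cc)
    (θ : cc.pt ⟶ C.G) [IsIso θ] (φ : ∀ i, (fib i).obj P ⟶ (EtCoh.push (c.π.app i)).obj (K.obj (op i)))
    [∀ i, IsIso (adjL (c.π.app i) (φ i))]
    (hφ : ∀ i, φ i ≫ (EtCoh.push (c.π.app i)).map (cc.ι.app (op i) ≫ θ) = C.comp i)
    (htr : ∀ {k i : I} (a : k ⟶ i), trans P a ≫ (EtCoh.push (D.map a)).map (φ k) =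
      (φ i ≫ (EtCoh.push (c.π.app i)).map (K.map a.op)) ≫
        (etPc (c.π.app k) (D.map a) (c.π.app i) (c.w a)).app (K.obj (op k))) : C.IsLim := by
  have happ : ∀ (i : I) (V : (D.obj i).Etale) (s : P.obj.obj (op ((incl D i).obj V))),
      C.η.app (op ((incl D i).obj V)) s = (cc.ι.app (op i) ≫ θ).hom.app (op ((EtCoh.bc (c.π.app i)).obj V))
        ((φ i).hom.app (op V) s) := fun i V s =>
    (ConcreteCategory.congr_hom (congrArg (fun t : (fib i).obj P ⟶ (EtCoh.push (c.π.app i)).obj C.G =>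
      t.hom.app (op V)) (hφ i)) s).symm
  refine isLim_of_stalks C (fun Ω _ _ ξ q => ?_) (fun Ω _ _ ξ A z s h => ?_)
  · obtain ⟨i, q', hq'⟩ := Concrete.isColimit_exists_rep (K ⋙ stk (A := AddCommGrpCat.{u + 1}) ξ)
      (isColimitOfPreserves (stk ξ) hcc) ((inv ((stk ξ).map θ)) q)
    obtain ⟨p₀, hp₀⟩ := (ConcreteCategory.bijective_of_isIso ((stk ξ).map (adjL (c.π.app i.unop) (φ i.unop)))).2 q'
    obtain ⟨p, hp⟩ := (ConcreteCategory.bijective_of_isIso
      ((stalkPull (c.π.app i.unop) ξ AddCommGrpCat.{u + 1}).hom.app ((fib i.unop).obj P))).2 p₀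
    obtain ⟨V, v, s, hs⟩ := exists_germ (A := AddCommGrpCat.{u + 1}) (ξ ≫ c.π.app i.unop) p
    subst hs hp hp₀
    have h1 := germ_adjL (c.π.app i.unop) (φ i.unop) ξ V v s
    replace hq' := (congrArg (((stk (A := AddCommGrpCat.{u + 1}) ξ).mapCocone cc).ι.app i) h1.symm).trans hq'
    refine ⟨i.unop, V, v, s, ?_⟩
    rw [happ]
    refine (germ_natural_apply ξ (cc.ι.app (op i.unop) ≫ θ) _ _ _).symm.trans ?_
    rw [Functor.map_comp, ConcreteCategory.comp_apply]
    refine (congrArg ((stk ξ).map θ) hq').trans ?_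
    rw [← ConcreteCategory.comp_apply, IsIso.inv_hom_id]
    rfl
  · obtain ⟨i, V⟩ := A
    have h' : ((stk ξ).mapCocone cc).ι.app (op i)
        (germ ξ (K.obj (op i)) ((EtCoh.bc (c.π.app i)).obj V) z ((φ i).hom.app (op V) s)) =
      ((stk ξ).mapCocone cc).ι.app (op i) 0 := by
      rw [map_zero]
      apply (ConcreteCategory.bijective_of_isIso ((stk ξ).map θ)).1
      refine Eq.trans ?_ (map_zero _).symm
      refine Eq.trans ?_ h
      show (stk ξ).map θ ((stk ξ).map (cc.ι.app (op i)) _) = _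
      refine (congrArg ((stk ξ).map θ) (germ_natural_apply ξ (cc.ι.app (op i)) _ z _)).trans ?_
      refine (germ_natural_apply ξ θ _ z _).trans ?_
      exact congrArg (germ ξ C.G _ z) (happ i V s).symm
    obtain ⟨j, f, g, he⟩ := Concrete.isColimit_exists_of_rep_eq (K ⋙ stk (A := AddCommGrpCat.{u + 1}) ξ)
      (isColimitOfPreserves (stk ξ) hcc) _ _ h'
    rw [map_zero] at he
    have he' : germ ξ (K.obj j) ((EtCoh.bc (c.π.app i)).obj V) z
        ((K.map f).hom.app (op ((EtCoh.bc (c.π.app i)).obj V)) ((φ i).hom.app (op V) s)) = 0 :=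
      (germ_natural_apply ξ (K.map f) _ z _).symm.trans he
    refine ⟨j.unop, f.unop, ?_⟩
    let t : ((fib j.unop).obj P).obj.obj (op ((EtCoh.bc (D.map f.unop)).obj V)) :=
      P.obj.map (cart ((incl D i).obj V) f.unop).op s
    have hst : (φ j.unop).hom.app (op ((EtCoh.bc (D.map f.unop)).obj V)) t =
        (K.obj j).obj.map (bcCompHom (c.π.app j.unop) (D.map f.unop) (c.π.app i) (c.w f.unop) V).op
          ((K.map f).hom.app (op ((EtCoh.bc (c.π.app i)).obj V)) ((φ i).hom.app (op V) s)) :=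
      ConcreteCategory.congr_hom (congrArg (fun w : (fib i).obj P ⟶ (EtCoh.push (D.map f.unop)).obj
        ((EtCoh.push (c.π.app j.unop)).obj (K.obj j)) => w.hom.app (op V)) (htr f.unop)) s
    have h2 := germ_adjL (c.π.app j.unop) (φ j.unop) ξ ((EtCoh.bc (D.map f.unop)).obj V)
      (Fib.proj (c.π.app j.unop) ξ (restrFib (A := (incl D i).obj V) z f.unop)) t
    rw [Fib.lift_proj, hst] at h2
    have h3 := h2.trans ((germ_bcCompHom (K.obj j) f.unop z _).trans he')
    apply (ConcreteCategory.bijective_of_isIso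
      ((stalkPull (c.π.app j.unop) ξ AddCommGrpCat.{u + 1}).hom.app ((fib j.unop).obj P))).1
    rw [map_zero]
    apply (ConcreteCategory.bijective_of_isIso ((stk ξ).map (adjL (c.π.app j.unop) (φ j.unop)))).1
    exact h3.trans (map_zero _).symm

end EtContLib
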