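import Groth.Agent.EtContLib.Bc
import Groth.Agent.DescFP.Main
import Groth.Agent.DescFP.Hom
import Groth.Agent.RichLib.LimitDescentProps
import Groth.Agent.RichLib.LimitDescentFlat

/-!
# Quasi-compact quasi-separated étale schemes over an affine limit come from the stages
-/

set_option autoImplicit false
set_option linter.unusedSectionVars false
set_option linter.style.haveILetI false
set_option backward.isDefEq.respectTransparency false
set_option backward.isDefEq.respectTransparency.types false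
set_option synthInstance.maxHeartbeats 400000
set_option maxHeartbeats 1000000

universe u

open CategoryTheory CategoryTheory.Limits AlgebraicGeometry Opposite

noncomputable section

namespace EtContLib

open RichLib.LimBC in
theorem exists_obj {I : Type u} [SmallCategory I] [IsCofiltered I] {D : I ⥤ Scheme.{u}} {c : Cone D}
    (hc : IsLimit c) [∀ (i j : I) (f : i ⟶ j), IsAffineHom (D.map f)]
    [∀ i, CompactSpace (D.obj i)] [∀ i, QuasiSeparatedSpace (D.obj i)]
    (W : c.pt.Etale) [CompactSpace W.left] [QuasiSeparatedSpace W.left] :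
    ∃ A : Obj D, CompactSpace A.V.left ∧ QuasiSeparatedSpace A.V.left ∧ Nonempty ((uF c).obj A ≅ W) := by
  obtain ⟨i₀⟩ := IsCofiltered.nonempty (C := I)
  haveI := isAffineHom_π_app D c hc i₀
  haveI : QuasiSeparatedSpace c.pt := quasiSeparatedSpace_of_quasiSeparated (c.π.app i₀)
  let h : W.left ⟶ c.pt := W.hom
  haveI : AlgebraicGeometry.Etale h := W.prop
  haveI : QuasiCompact h := quasiCompact_of_compactSpace h
  haveI : QuasiSeparated h := inferInstance
  obtain ⟨i, ⟨M⟩⟩ := DescFP.exists_model hc h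
  haveI := M.lfp
  haveI := M.qc
  haveI := M.compactSpace
  haveI := M.quasiSeparatedSpace
  let S := ofStage D c hc i
  haveI : AlgebraicGeometry.Etale (pullback.snd M.p (c.π.app i)) := by
    rw [← M.sq.isoPullback_inv_snd]
    infer_instance
  obtain ⟨φ₁, h₁⟩ := exists_at_formallyUnramified S M.p
    (show FormallyUnramified (pullback.snd M.p (c.π.app i)) from inferInstance)
  obtain ⟨φ₂, h₂⟩ := exists_at_flat S M.p (show Flat (pullback.snd M.p (c.π.app i)) from inferInstance)
  let φ := IsCofiltered.min φ₁ φ₂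
  have hF : FormallyUnramified (pullback.snd M.p (D.map φ.hom)) :=
    at_of_hom S M.p (IsCofiltered.minToLeft φ₁ φ₂) h₁
  have hL : Flat (pullback.snd M.p (D.map φ.hom)) := at_of_hom S M.p (IsCofiltered.minToRight φ₁ φ₂) h₂
  haveI : AlgebraicGeometry.Etale (pullback.snd M.p (D.map φ.hom)) :=
    @Etale.of_formallyUnramified_of_flat _ _ _ hL hF inferInstance
  let V : (D.obj φ.left).Etale := MorphismProperty.Over.mk ⊤ (pullback.snd M.p (D.map φ.hom))
    (inferInstance : AlgebraicGeometry.Etale (pullback.snd M.p (D.map φ.hom)))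
  refine ⟨⟨φ.left, V⟩, (M.push φ.hom).compactSpace, (M.push φ.hom).quasiSeparatedSpace, ⟨?_⟩⟩
  exact (MorphismProperty.Over.isoMk (M.push φ.hom).sq.isoPullback
    (M.push φ.hom).sq.isoPullback_hom_snd).symm

variable {I : Type u} [SmallCategory I] {D : I ⥤ Scheme.{u}} {c : Cone D}

theorem isIso_uF_cart (A : Obj D) {k : I} (a : k ⟶ A.i) : IsIso ((uF c).map (cart A a)) := by
  let l : ((uF c).obj A).left ⟶ (bcObj A a).V.left :=
    pullback.lift (pullback.fst A.V.hom (c.π.app A.i)) (pullback.snd A.V.hom (c.π.app A.i) ≫ c.π.app k) (by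
      rw [Category.assoc, c.w]
      exact pullback.condition)
  let inv' : (uF c).obj A ⟶ (uF c).obj (bcObj A a) :=
    MorphismProperty.Over.homMk (pullback.lift l (pullback.snd A.V.hom (c.π.app A.i)) (pullback.lift_snd _ _ _))
      (pullback.lift_snd _ _ _)
  refine ⟨inv', ?_, ?_⟩
  · refine DescSecLib.bc_hom_ext _ _ _ ?_
    show (_ ≫ _) ≫ _ = _
    rw [Category.assoc]
    erw [pullback.lift_fst, Category.id_comp]
    apply pullback.hom_ext
    · rw [Category.assoc]
      erw [pullback.lift_fst, uF_map_fst]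
      rfl
    · rw [Category.assoc]
      erw [pullback.lift_snd, pullback.lift_snd_assoc]
      exact pullback.condition.symm
  · refine DescSecLib.bc_hom_ext _ _ _ ?_
    show (_ ≫ _) ≫ _ = _
    rw [Category.assoc, uF_map_fst]
    erw [pullback.lift_fst_assoc, pullback.lift_fst, Category.id_comp]

theorem exists_hom [IsCofiltered I] (hc : IsLimit c) [∀ (i j : I) (f : i ⟶ j), IsAffineHom (D.map f)]
    [∀ i, CompactSpace (D.obj i)] [∀ i, QuasiSeparatedSpace (D.obj i)]
    (A B : Obj D) [CompactSpace A.V.left] [QuasiSeparatedSpace A.V.left]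
    (ψ : (uF c).obj A ⟶ (uF c).obj B) :
    ∃ (k : I) (a : k ⟶ A.i) (b : k ⟶ B.i) (m : (bcObj A a).V ⟶ (bcObj B b).V),
      (uF c).map ((incl D k).map m) ≫ (uF c).map (cart B b) = (uF c).map (cart A a) ≫ ψ := by
  obtain ⟨i, a₀, b₀, -⟩ := IsCofilteredOrEmpty.cone_objs A.i B.i
  let A₁ := bcObj A a₀
  let B₁ := bcObj B b₀
  haveI := isIso_uF_cart (c := c) B b₀
  let ψ₁ : (uF c).obj A₁ ⟶ (uF c).obj B₁ := (uF c).map (cart A a₀) ≫ ψ ≫ inv ((uF c).map (cart B b₀))
  let xi : A₁.V.left ⟶ D.obj i := A₁.V.hom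
  let yi : B₁.V.left ⟶ D.obj i := B₁.V.hom
  haveI : AlgebraicGeometry.Etale yi := B₁.V.prop
  haveI : CompactSpace A₁.V.left := compactSpace_bcObj A a₀
  haveI : QuasiSeparatedSpace A₁.V.left := quasiSeparatedSpace_bcObj A a₀
  obtain ⟨j, φ, fj, sX, sY, h1, h2, h3, h4, h5, h6⟩ := DescFP.exists_hom_descend hc xi yi
    (pullback.fst xi (c.π.app i)) (pullback.snd xi (c.π.app i)) (IsPullback.of_hasPullback _ _)
    (pullback.fst yi (c.π.app i)) (pullback.snd yi (c.π.app i)) (IsPullback.of_hasPullback _ _)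
    ψ₁.left (MorphismProperty.Over.w ψ₁)
  let m₁ : (bcObj A₁ φ).V ⟶ (bcObj B₁ φ).V := MorphismProperty.Over.homMk fj h1
  let rA : (⟨j, (bcObj A (φ ≫ a₀)).V⟩ : Obj D) ⟶ bcObj A₁ φ :=
    liftBc (liftBc (cart A (φ ≫ a₀)) a₀ φ rfl) φ (𝟙 j) (Category.id_comp _)
  let rB : bcObj B₁ φ ⟶ (⟨j, (bcObj B (φ ≫ b₀)).V⟩ : Obj D) :=
    liftBc (cart B₁ φ ≫ cart B b₀) (φ ≫ b₀) (𝟙 j) (Category.id_comp _)
  let mT : (⟨j, (bcObj A (φ ≫ a₀)).V⟩ : Obj D) ⟶ ⟨j, (bcObj B (φ ≫ b₀)).V⟩ := rA ≫ (incl D j).map m₁ ≫ rB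
  have hmT : mT.a = 𝟙 j := (Category.id_comp _).trans (Category.id_comp _)
  let m : (bcObj A (φ ≫ a₀)).V ⟶ (bcObj B (φ ≫ b₀)).V :=
    MorphismProperty.Over.homMk mT.g (mT.w.trans (by rw [hmT, D.map_id]; exact Category.comp_id _))
  refine ⟨j, φ ≫ a₀, φ ≫ b₀, m, ?_⟩
  have hm : (incl D j).map m = mT := hom_ext' hmT.symm rfl
  rw [hm, ← (uF c).map_comp]
  show (uF c).map ((rA ≫ (incl D j).map m₁ ≫ rB) ≫ cart B (φ ≫ b₀)) = _
  rw [Category.assoc, Category.assoc, liftBc_cart]
  have key : (uF c).map ((incl D j).map m₁ ≫ cart B₁ φ) = (uF c).map (cart A₁ φ) ≫ ψ₁ := by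
    refine DescSecLib.bc_hom_ext _ _ _ ?_
    rw [uF_map_fst]
    show pullback.fst _ _ ≫ fj ≫ pullback.fst yi (D.map φ) =
      (((uF c).map (cart A₁ φ)).left ≫ ψ₁.left) ≫ pullback.fst yi (c.π.app i)
    rw [Category.assoc, ← h4]
    have hs : ((uF c).map (cart A₁ φ)).left ≫ sX = pullback.fst (bcObj A₁ φ).V.hom (c.π.app j) := by
      apply pullback.hom_ext
      · rw [Category.assoc, h2, uF_map_fst]
        rfl
      · rw [Category.assoc, h3]
        erw [pullback.lift_snd_assoc]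
        exact pullback.condition.symm
    rw [← Category.assoc ψ₁.left, ← h6, Category.assoc, ← Category.assoc _ sX, hs]
  rw [(uF c).map_comp rA, ← Category.assoc ((incl D j).map m₁), (uF c).map_comp _ (cart B b₀), key]
  simp only [ψ₁, Category.assoc, IsIso.inv_hom_id, Category.comp_id]
  rw [← Category.assoc, ← Category.assoc, ← (uF c).map_comp, ← (uF c).map_comp, liftBc_cart, liftBc_cart]

end EtContLib
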