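import Groth.Agent.EtContLib.Bc

/-!
# Sections over the cone point of a limit extension come from the stages
-/

set_option autoImplicit false
set_option linter.unusedSectionVars false
set_option linter.style.haveILetI false
set_option backward.isDefEq.respectTransparency false
set_option backward.isDefEq.respectTransparency.types false
set_option synthInstance.maxHeartbeats 400000
set_option maxHeartbeats 1000000

universe u

open CategoryTheory CategoryTheory.Limits AlgebraicGeometry Opposite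
open Groth.Agent.EtShLib

noncomputable section

namespace EtContLib

variable {I : Type u} [SmallCategory I] {D : I ⥤ Scheme.{u}} [IsCofiltered I] {c : Cone D} (hc : IsLimit c)
  [∀ (i j : I) (f : i ⟶ j), IsAffineHom (D.map f)]
  [∀ i, CompactSpace (D.obj i)] [∀ i, QuasiSeparatedSpace (D.obj i)]
  {P : Sheaf (topology D) AddCommGrpCat.{u + 1}} {C : Coc c P} (hC : C.IsLim)

theorem map_map (P : Sheaf (topology D) AddCommGrpCat.{u + 1}) {A B B' : Obj D} (f : B ⟶ A) (g : B' ⟶ B)
    (s : P.obj.obj (op A)) : P.obj.map g.op (P.obj.map f.op s) = P.obj.map (g ≫ f).op s := by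
  rw [op_comp, Functor.map_comp, ConcreteCategory.comp_apply]

theorem gmap_map (G : EtCoh.Ab c.pt) {A B B' : c.pt.Etale} (f : B ⟶ A) (g : B' ⟶ B) (s : G.obj.obj (op A)) :
    G.obj.map g.op (G.obj.map f.op s) = G.obj.map (g ≫ f).op s := by
  rw [op_comp, Functor.map_comp, ConcreteCategory.comp_apply]

/-- Points of a fibre product of étale schemes. -/
theorem exists_pullback_point {X : Scheme.{u}} {U V W : X.Etale} (a : U ⟶ W) (g : V ⟶ W) (x : U.left) (v : V.left)
    (h : a.left.base x = g.left.base v) :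
    ∃ (Z : X.Etale) (p : Z ⟶ U) (q : Z ⟶ V) (z : Z.left), p ≫ a = q ≫ g ∧ p.left.base z = x := by
  haveI := etale_left g
  haveI : AlgebraicGeometry.Etale U.hom := U.prop
  obtain ⟨z, hz, -⟩ := Scheme.Pullback.exists_preimage_pullback (f := a.left) (g := g.left) x v h
  let Z : X.Etale := MorphismProperty.Over.mk ⊤ (pullback.fst a.left g.left ≫ U.hom)
    (inferInstance : AlgebraicGeometry.Etale (pullback.fst a.left g.left ≫ U.hom))
  refine ⟨Z, MorphismProperty.Over.homMk (pullback.fst a.left g.left) rfl,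
    MorphismProperty.Over.homMk (pullback.snd a.left g.left) ?_, z, MorphismProperty.Over.Hom.ext pullback.condition, hz⟩
  show pullback.snd a.left g.left ≫ V.hom = pullback.fst a.left g.left ≫ U.hom
  exact (congrArg (pullback.snd a.left g.left ≫ ·) (MorphismProperty.Over.w g).symm).trans
    ((pullback.condition_assoc _).symm.trans (congrArg (pullback.fst a.left g.left ≫ ·) (MorphismProperty.Over.w a)))

include hc hC in
theorem exists_stage_zero (A : Obj D) [CompactSpace A.V.left] (s : P.obj.obj (op A)) (h : C.η.app (op A) s = 0) :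
    ∃ (k : I) (a : k ⟶ A.i), P.obj.map (cart A a).op s = 0 := by
  have hloc : ∀ y : ((uF c).obj A).left, ∃ (B : Obj D) (f : B ⟶ A) (z : ((uF c).obj B).left),
      ((uF c).map f).left.base z = y ∧ P.obj.map f.op s = 0 := by
    intro y
    obtain ⟨Ω, _, _, ξ, z, rfl⟩ := exists_geometric (U := (uF c).obj A) y
    obtain ⟨B, f, z', hz', hs⟩ := hC.van Ω ξ A z s (by rw [h, map_zero])
    exact ⟨B, f, z'.pt, congrArg (fun t : Fib ξ ((uF c).obj A) => t.pt) hz', hs⟩
  choose B f z hz hs using hloc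
  obtain ⟨t, k, a, b, hb, hcov⟩ := exists_stage_cover hc A B f fun y => ⟨y, z y, hz y⟩
  refine ⟨k, a, res_ext ((fib k).obj P) (U := (bcObj A a).V) _ _ fun x => ?_⟩
  obtain ⟨j, p, hp⟩ := hcov x
  refine ⟨_, bMap (f j.1) (b j) a (hb j), ⟨p, hp⟩, ?_⟩
  show P.obj.map ((incl D k).map (bMap (f j.1) (b j) a (hb j))).op (P.obj.map (cart A a).op s) =
    P.obj.map ((incl D k).map (bMap (f j.1) (b j) a (hb j))).op 0
  rw [map_map, bMap_cart, ← map_map, hs, map_zero, map_zero]

include hC in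
theorem exists_local_lift (A : Obj D) (t : C.G.obj.obj (op ((uF c).obj A))) (hc : IsLimit c)
    (y : ((uF c).obj A).left) :
    ∃ (B : Obj D) (f : B ⟶ A) (s : P.obj.obj (op B)) (z : ((uF c).obj B).left),
      IsAffine B.V.left ∧ ((uF c).map f).left.base z = y ∧
        C.η.app (op B) s = C.G.obj.map ((uF c).map f).op t := by
  obtain ⟨Ω, _, _, ξ, z₁, rfl⟩ := exists_geometric (U := (uF c).obj A) y
  obtain ⟨B₀, z₀, s₀, hs₀⟩ := hC.gen Ω ξ (germ ξ C.G ((uF c).obj A) z₁ t)
  obtain ⟨⟨B₁, z⟩, ⟨f, hf⟩, ⟨g, hg⟩, -⟩ := IsCofilteredOrEmpty.cone_objs (C := (NF c ξ).Elements) ⟨A, z₁⟩ ⟨B₀, z₀⟩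
  let t₁ := C.G.obj.map ((uF c).map f).op t
  let s₁ := P.obj.map g.op s₀
  have hgerm : germ ξ C.G ((uF c).obj B₁) z (C.η.app (op B₁) s₁) = germ ξ C.G ((uF c).obj B₁) z t₁ := by
    rw [C.germ_η g z s₀, show germ ξ C.G ((uF c).obj B₁) z t₁ =
      germ ξ C.G ((uF c).obj A) (Fib.map ((uF c).map f) z) t from germ_res_apply ξ C.G _ z t]
    rw [show Fib.map ((uF c).map g) z = z₀ from hg, show Fib.map ((uF c).map f) z = z₁ from hf]
    exact hs₀
  obtain ⟨V, h, v, hv, he⟩ := (germ_eq_iff ξ ((uF c).obj B₁) z _ _).1 hgerm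
  let S := sysOf hc B₁
  haveI : ∀ {φ ψ : Over B₁.i} (g : φ ⟶ ψ), IsAffineHom (S.D.map g) := fun g => S.affine_map g
  let W : (S.c.pt : Scheme.{u}).Opens :=
    ⟨Set.range h.left.base, haveI := etale_left h; h.left.isOpenMap.isOpen_range⟩
  have hzW : Fib.pt (ξ := ξ) (U := (uF c).obj B₁) z ∈ W :=
    ⟨v.pt, congrArg (fun t : Fib ξ ((uF c).obj B₁) => t.pt) hv⟩
  obtain ⟨_, ⟨_, ⟨φ, U, hU, rfl⟩, rfl⟩, hzU, hUW⟩ :=
    (isBasis_preimage_isAffineOpen S.D S.c S.hc).exists_subset_of_mem_open hzW W.2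
  let B₂ := bcObj B₁ φ.hom
  haveI : AlgebraicGeometry.Etale B₂.V.hom := B₂.V.prop
  let U' : B₂.V.left.Opens := U
  let B : Obj D := ⟨φ.left, MorphismProperty.Over.mk ⊤ (U'.ι ≫ B₂.V.hom)
    (inferInstance : AlgebraicGeometry.Etale (U'.ι ≫ B₂.V.hom))⟩
  let m : B.V ⟶ B₂.V := MorphismProperty.Over.homMk U'.ι rfl
  let F : B ⟶ B₁ := (incl D φ.left).map m ≫ cart B₁ φ.hom
  let π : ((uF c).obj B₁).left ⟶ B₂.V.left := S.c.π.app φ
  have hF : ((uF c).map F).left ≫ π = pullback.fst B.V.hom (c.π.app φ.left) ≫ U'.ι := by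
    apply pullback.hom_ext
    · show (_ ≫ RichLib.LimBC.pbπ _ _ φ) ≫ _ = (_ ≫ _) ≫ _
      rw [Category.assoc, Category.assoc]
      erw [RichLib.LimBC.pbπ_fst, uF_map_fst]
      rfl
    · show (_ ≫ RichLib.LimBC.pbπ _ _ φ) ≫ _ = (_ ≫ _) ≫ _
      rw [Category.assoc, Category.assoc]
      erw [RichLib.LimBC.pbπ_snd, pullback.lift_snd_assoc]
      exact pullback.condition.symm
  refine ⟨B, F ≫ f, P.obj.map F.op s₁, ?_⟩
  have hsub : ∀ x : ((uF c).obj B).left, ((uF c).map F).left.base x ∈ W := fun x => hUW (by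
    show π.base (((uF c).map F).left.base x) ∈ U'
    rw [← Scheme.Hom.comp_apply, hF]
    exact ((pullback.fst B.V.hom (c.π.app φ.left)).base x).2)
  have hpt : ∃ x : ((uF c).obj B).left, ((uF c).map F).left.base x = Fib.pt (ξ := ξ) (U := (uF c).obj B₁) z := by
    let o : Spec (CommRingCat.of Ω) ⟶ ((uF c).obj B₁).left := Fib.hom (ξ := ξ) (U := (uF c).obj B₁) z
    let l : Spec (CommRingCat.of Ω) ⟶ U'.toScheme := IsOpenImmersion.lift U'.ι (o ≫ π) (by
      rw [Scheme.Opens.range_ι]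
      rintro _ ⟨w, rfl⟩
      obtain rfl : w = default := Subsingleton.elim _ _
      exact hzU)
    have hl : l ≫ U'.ι = o ≫ π := IsOpenImmersion.lift_fac _ _ _
    let x : Spec (CommRingCat.of Ω) ⟶ ((uF c).obj B).left := pullback.lift l ξ (by
      show l ≫ U'.ι ≫ B₂.V.hom = ξ ≫ c.π.app φ.left
      rw [← Category.assoc, hl, Category.assoc]
      erw [RichLib.LimBC.pbπ_snd]
      rw [← Category.assoc]
      exact congrArg (· ≫ c.π.app φ.left) (Fib.w (ξ := ξ) (U := (uF c).obj B₁) z))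
    have hx : x ≫ ((uF c).map F).left = o := by
      apply pullback.hom_ext
      · rw [Category.assoc, uF_map_fst]
        show x ≫ _ ≫ U'.ι ≫ pullback.fst B₁.V.hom (D.map φ.hom) = _
        erw [pullback.lift_fst_assoc, ← Category.assoc, hl, Category.assoc]
        exact congrArg (o ≫ ·) (RichLib.LimBC.pbπ_fst _ _ φ)
      · rw [Category.assoc]
        erw [pullback.lift_snd, pullback.lift_snd]
        exact (Fib.w (ξ := ξ) (U := (uF c).obj B₁) z).symm
    refine ⟨x.base default, ?_⟩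
    rw [← Scheme.Hom.comp_apply, hx]
  obtain ⟨x, hx⟩ := hpt
  refine ⟨x, hU, ?_, ?_⟩
  · rw [(uF c).map_comp]
    show ((uF c).map f).left.base (((uF c).map F).left.base x) = _
    rw [hx]
    exact congrArg (fun t : Fib ξ ((uF c).obj A) => t.pt) hf
  · rw [C.η_nat, (uF c).map_comp F f, ← gmap_map]
    refine res_ext C.G _ _ fun w => ?_
    obtain ⟨v₀, hv₀⟩ := hsub w
    obtain ⟨Z, p, q, z', hpq, hz'⟩ := exists_pullback_point ((uF c).map F) h w v₀ hv₀.symm
    refine ⟨Z, p, ⟨z', hz'⟩, ?_⟩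
    rw [gmap_map, gmap_map, hpq, ← gmap_map, ← gmap_map, he]

include hc hC in
theorem exists_stage_lift (A : Obj D) [CompactSpace A.V.left] [QuasiSeparatedSpace A.V.left]
    (t : C.G.obj.obj (op ((uF c).obj A))) :
    ∃ (k : I) (a : k ⟶ A.i) (s : P.obj.obj (op (bcObj A a))),
      C.η.app (op (bcObj A a)) s = C.G.obj.map ((uF c).map (cart A a)).op t := by
  classical
  have hloc := fun y => exists_local_lift hC A t hc y
  choose B f s z hB hz hs using hloc
  obtain ⟨τ, k, a, b, hb, hcov⟩ := exists_stage_cover hc A B f fun y => ⟨y, z y, hz y⟩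
  let W : τ → (D.obj k).Etale := fun j => (bcObj (B j.1) (b j)).V
  let m : ∀ j : τ, W j ⟶ (bcObj A a).V := fun j => bMap (f j.1) (b j) a (hb j)
  let s' : ∀ j : τ, P.obj.obj (op ((incl D k).obj (W j))) := fun j => P.obj.map (cart (B j.1) (b j)).op (s j.1)
  have hs' : ∀ j : τ, C.η.app (op ((incl D k).obj (W j))) (s' j) =
      C.G.obj.map ((uF c).map ((incl D k).map (m j))).op (C.G.obj.map ((uF c).map (cart A a)).op t) := fun j => by
    rw [C.η_nat, hs, gmap_map, gmap_map, ← (uF c).map_comp, ← (uF c).map_comp, bMap_cart]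
  haveI : ∀ j : τ, IsAffine (W j).left := fun j => by
    haveI := hB j.1
    haveI : IsAffine ((𝟭 Scheme).obj (B j.1).V.left) := hB j.1
    haveI : IsAffineHom (pullback.fst (B j.1).V.hom (D.map (b j))) := MorphismProperty.pullback_fst _ _ inferInstance
    exact isAffine_of_isAffineHom (pullback.fst (B j.1).V.hom (D.map (b j)))
  haveI := quasiSeparatedSpace_bcObj A a
  haveI := compactSpace_bcObj A a
  let R : τ × τ → (D.obj k).Etale := fun j =>
    haveI := etale_left (m j.1); haveI := etale_left (m j.2)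
    haveI : AlgebraicGeometry.Etale (W j.1).hom := (W j.1).prop
    MorphismProperty.Over.mk ⊤ (pullback.fst (m j.1).left (m j.2).left ≫ (W j.1).hom)
      (inferInstance : AlgebraicGeometry.Etale (pullback.fst (m j.1).left (m j.2).left ≫ (W j.1).hom))
  let r₁ : ∀ j, R j ⟶ W j.1 := fun j => MorphismProperty.Over.homMk (pullback.fst (m j.1).left (m j.2).left) rfl
  let r₂ : ∀ j, R j ⟶ W j.2 := fun j => MorphismProperty.Over.homMk (pullback.snd (m j.1).left (m j.2).left) (by
    show pullback.snd (m j.1).left (m j.2).left ≫ (W j.2).hom = pullback.fst (m j.1).left (m j.2).left ≫ (W j.1).hom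
    exact (congrArg (pullback.snd _ _ ≫ ·) (MorphismProperty.Over.w (m j.2)).symm).trans
      ((pullback.condition_assoc _).symm.trans (congrArg (pullback.fst _ _ ≫ ·) (MorphismProperty.Over.w (m j.1)))))
  have hR : ∀ j, r₁ j ≫ m j.1 = r₂ j ≫ m j.2 := fun j => MorphismProperty.Over.Hom.ext pullback.condition
  have hzero : ∀ j : τ × τ, ∃ (l : I) (e : l ⟶ k), P.obj.map (cart ((incl D k).obj (R j)) e).op
      (P.obj.map ((incl D k).map (r₁ j)).op (s' j.1) - P.obj.map ((incl D k).map (r₂ j)).op (s' j.2)) = 0 := by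
    intro j
    haveI : CompactSpace ((incl D k).obj (R j)).V.left := by
      haveI : QuasiCompact (pullback.fst (m j.1).left (m j.2).left) := inferInstance
      exact QuasiCompact.compactSpace_of_compactSpace (pullback.fst (m j.1).left (m j.2).left)
    refine exists_stage_zero hc hC ((incl D k).obj (R j)) _ ?_
    rw [map_sub, C.η_nat ((incl D k).map (r₁ j)) (s' j.1), C.η_nat ((incl D k).map (r₂ j)) (s' j.2), hs', hs']
    simp only [gmap_map, ← (uF c).map_comp, ← Category.assoc, ← (incl D k).map_comp, hR, sub_self]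
  choose l e he using hzero
  obtain ⟨φ, hφ⟩ := IsCofiltered.inf_objs_exists (Finset.univ.image fun j : τ × τ => Over.mk (e j))
  let g : ∀ j : τ × τ, φ ⟶ Over.mk (e j) := fun j => (hφ (Finset.mem_image_of_mem _ (Finset.mem_univ j))).some
  let k' := φ.left
  let ε : k' ⟶ k := φ.hom
  let A' := bcObj A (ε ≫ a)
  let W' : τ → (D.obj k').Etale := fun j => (bcObj (B j.1) (ε ≫ b j)).V
  let m' : ∀ j : τ, W' j ⟶ A'.V := fun j => bMap (f j.1) (ε ≫ b j) (ε ≫ a) (by rw [Category.assoc, hb])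
  let cA : A' ⟶ bcObj A a := liftBc (cart A (ε ≫ a)) a ε rfl
  let cW : ∀ j : τ, (⟨k', W' j⟩ : Obj D) ⟶ (incl D k).obj (W j) :=
    fun j => liftBc (cart (B j.1) (ε ≫ b j)) (b j) ε rfl
  have hsq : ∀ j, (incl D k').map (m' j) ≫ cA = cW j ≫ (incl D k).map (m j) := fun j => by
    refine bc_hom_unique _ _ ((Category.id_comp ε).trans (Category.comp_id ε).symm) ?_
    rw [Category.assoc, Category.assoc, liftBc_cart, bMap_cart, bMap_cart, ← Category.assoc (cW j), liftBc_cart]
    all_goals exact hb j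
  let s'' : ∀ j : τ, P.obj.obj (op ((incl D k').obj (W' j))) := fun j => P.obj.map (cW j).op (s' j)
  have hcov' : ∀ x : A'.V.left, ∃ (j : τ) (p : (W' j).left), (m' j).left.base p = x := by
    intro x
    obtain ⟨j, p, hp⟩ := hcov (cA.g.base x)
    obtain ⟨q, hq, -⟩ := Scheme.Pullback.exists_preimage_pullback (f := cA.g) (g := (m j).left) x p hp.symm
    let T : (D.obj k').Etale :=
      haveI := etale_left (m j)
      haveI : AlgebraicGeometry.Etale A'.V.hom := A'.V.prop
      MorphismProperty.Over.mk ⊤ (pullback.fst cA.g (m j).left ≫ A'.V.hom)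
        (inferInstance : AlgebraicGeometry.Etale (pullback.fst cA.g (m j).left ≫ A'.V.hom))
    let toW : (⟨k', T⟩ : Obj D) ⟶ (incl D k).obj (W j) := ⟨ε, pullback.snd cA.g (m j).left, by
      show pullback.snd cA.g (m j).left ≫ (W j).hom = (pullback.fst cA.g (m j).left ≫ A'.V.hom) ≫ D.map ε
      refine (congrArg (pullback.snd cA.g (m j).left ≫ ·) (MorphismProperty.Over.w (m j)).symm).trans ?_
      refine (pullback.condition_assoc _).symm.trans ?_
      exact (congrArg (pullback.fst cA.g (m j).left ≫ ·) cA.w).trans (Category.assoc _ _ _).symm⟩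
    let toA : T ⟶ A'.V := MorphismProperty.Over.homMk (pullback.fst cA.g (m j).left) rfl
    let u : (⟨k', T⟩ : Obj D) ⟶ (⟨k', W' j⟩ : Obj D) :=
      liftBc (toW ≫ cart (B j.1) (b j)) (ε ≫ b j) (𝟙 k') (Category.id_comp _)
    refine ⟨j, u.g.base q, ?_⟩
    have h2 : u ≫ (incl D k').map (m' j) = (incl D k').map toA := by
      refine bc_hom_unique _ _ (Category.id_comp (𝟙 k')) ?_
      rw [Category.assoc, bMap_cart, ← Category.assoc, liftBc_cart, Category.assoc, ← bMap_cart, ← Category.assoc,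
        show toW ≫ (incl D k).map (m j) = (incl D k').map toA ≫ cA from
          hom_ext' ((Category.comp_id ε).trans (Category.id_comp ε).symm) pullback.condition.symm,
        Category.assoc, liftBc_cart]
      all_goals exact hb j
    rw [← hq]
    exact congrArg (fun t : _ ⟶ _ => (Hom.g t).base q) h2
  have hsh : (Presieve.ofArrows W' m').IsSheafFor (((fib k').obj P).obj ⋙ forget AddCommGrpCat.{u + 1}) := by
    rw [Presieve.isSheafFor_iff_generate]
    refine ((isSheaf_iff_isSheaf_of_type _ _).1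
      (GrothendieckTopology.HasSheafCompose.isSheaf ((fib k').obj P).obj ((fib k').obj P).property)) _ ?_
    refine mem_of_points _ fun x => ?_
    obtain ⟨j, p, hp⟩ := hcov' x
    exact ⟨_, m' j, ⟨_, 𝟙 _, m' j, Presieve.ofArrows.mk j, Category.id_comp _⟩, p, hp⟩
  obtain ⟨σ, hσ, -⟩ := (Presieve.isSheafFor_arrows_iff _ _).1 hsh s'' (fun j₁ j₂ Z p₁ p₂ hp => by
    show P.obj.map ((incl D k').map p₁).op (s'' j₁) = P.obj.map ((incl D k').map p₂).op (s'' j₂)
    show P.obj.map ((incl D k').map p₁).op (P.obj.map (cW j₁).op (s' j₁)) =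
      P.obj.map ((incl D k').map p₂).op (P.obj.map (cW j₂).op (s' j₂))
    rw [map_map P (cW j₁) ((incl D k').map p₁) (s' j₁), map_map P (cW j₂) ((incl D k').map p₂) (s' j₂)]
    let q₁ := (incl D k').map p₁ ≫ cW j₁
    let q₂ := (incl D k').map p₂ ≫ cW j₂
    have hq : q₁ ≫ (incl D k).map (m j₁) = q₂ ≫ (incl D k).map (m j₂) := by
      rw [Category.assoc, Category.assoc, ← hsq, ← hsq, ← Functor.map_comp_assoc, ← Functor.map_comp_assoc, hp]
    let q : (incl D k').obj Z ⟶ (incl D k).obj (R (j₁, j₂)) := ⟨q₁.a, pullback.lift q₁.g q₂.g (congrArg Hom.g hq), by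
      show pullback.lift q₁.g q₂.g _ ≫ pullback.fst (m j₁).left (m j₂).left ≫ (W j₁).hom = _
      rw [pullback.lift_fst_assoc]
      exact q₁.w⟩
    have e₁ : q ≫ (incl D k).map (r₁ (j₁, j₂)) = q₁ :=
      hom_ext' (Category.comp_id _) (pullback.lift_fst _ _ _)
    have e₂ : q ≫ (incl D k).map (r₂ (j₁, j₂)) = q₂ := by
      refine hom_ext' ((Category.comp_id _).trans ?_) (pullback.lift_snd _ _ _)
      show 𝟙 k' ≫ ε = 𝟙 k' ≫ ε
      rfl
    let q' := liftBc (A := (incl D k).obj (R (j₁, j₂))) q (e (j₁, j₂)) (g (j₁, j₂)).left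
      ((Over.w (g (j₁, j₂))).trans (Category.id_comp ε).symm)
    have e3 := congrArg (P.obj.map q'.op) (he (j₁, j₂))
    rw [map_zero, map_map, liftBc_cart, map_sub, map_map P ((incl D k).map (r₁ (j₁, j₂))) q, map_map P ((incl D k).map (r₂ (j₁, j₂))) q, e₁, e₂, sub_eq_zero] at e3
    exact e3)
  refine ⟨k', ε ≫ a, σ, res_ext C.G _ _ fun w => ?_⟩
  obtain ⟨j, p, hp⟩ := hcov' ((pullback.fst A'.V.hom (c.π.app k')).base w)
  obtain ⟨zz, hzz, -⟩ := Scheme.Pullback.exists_preimage_pullback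
    (f := (pullback.fst A'.V.hom (c.π.app k') : ((uF c).obj A').left ⟶ A'.V.left)) (g := (m' j).left) w p hp.symm
  refine ⟨(uF c).obj ⟨k', W' j⟩, (uF c).map ((incl D k').map (m' j)),
    ⟨(EtCoh.isPullback_bc_map (c.π.app k') (m' j)).isoPullback.inv.base zz, ?_⟩, ?_⟩
  · rw [uF_map_incl, ← hzz, ← Scheme.Hom.comp_apply, IsPullback.isoPullback_inv_fst]
    rfl
  · rw [← C.η_nat]
    refine (congrArg (C.η.app _) (hσ j)).trans ?_
    show C.η.app _ (P.obj.map (cW j).op (s' j)) = _
    rw [C.η_nat, hs', gmap_map, gmap_map, gmap_map, ← (uF c).map_comp, ← (uF c).map_comp, ← (uF c).map_comp,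
      ← hsq, Category.assoc, liftBc_cart]

end EtContLib
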