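import Groth.Agent.EtContLib.Sections
import Groth.Agent.EtContLib.Descend
import Groth.Agent.EtShLib.CechColim

/-!
# Injective sheaves on the total site are acyclic on stages and on the limit
-/

set_option autoImplicit false
set_option linter.unusedSectionVars false
set_option linter.style.haveILetI false
set_option backward.isDefEq.respectTransparency false
set_option backward.isDefEq.respectTransparency.types false
set_option synthInstance.maxHeartbeats 400000
set_option maxHeartbeats 1000000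

universe u

open CategoryTheory CategoryTheory.Limits AlgebraicGeometry Opposite
open Groth.Agent.EtShLib Groth.Agent.EpsLib

noncomputable section

namespace EtContLib

section Nerves

variable {C : Type (u + 1)} [Category.{u} C]

/-- The nerve of the image of a morphism under a functor preserving fibre products. -/
def mapNerve {C₀ : Type (u + 1)} [Category.{u} C₀] [HasPullbacks C₀] (G : C₀ ⥤ C)
    [PreservesLimitsOfShape WalkingCospan G] {W' W : C₀} (π : W' ⟶ W) : Nerve (G.map π) where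
  obj n := G.obj (pow π n).left
  pr n k := G.map (powPr π n k)
  w n k := by rw [← G.map_comp, ← G.map_comp, powPr_w, powPr_w]
  lift n _ t h := powLift π G n t h
  fac n _ t h k := powLift_pr π G n t h k
  ext n _ a b h := pow_hom_ext π G n a b h

theorem mapNerve_face {C₀ : Type (u + 1)} [Category.{u} C₀] [HasPullbacks C₀] (G : C₀ ⥤ C)
    [PreservesLimitsOfShape WalkingCospan G] {W' W : C₀} (π : W' ⟶ W) (n : ℕ) (i : Fin (n + 2)) :
    (mapNerve G π).face n i = G.map ((nerveOf π).face n i) := by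
  refine (mapNerve G π).ext n _ _ fun k => ?_
  rw [Nerve.face_pr]
  show G.map _ = G.map _ ≫ G.map _
  rw [← G.map_comp]
  exact congrArg G.map ((nerveOf π).face_pr n i k).symm

theorem cechD_mapNerve {C₀ : Type (u + 1)} [Category.{u} C₀] [HasPullbacks C₀] (G : C₀ ⥤ C)
    [PreservesLimitsOfShape WalkingCospan G] {W' W : C₀} (π : W' ⟶ W) (P : Cᵒᵖ ⥤ AddCommGrpCat.{u + 1}) (n : ℕ)
    (x : P.obj (op (G.obj (pow π n).left))) :
    cechD (mapNerve G π) P n x = cechD (nerveOf π) (G.op ⋙ P) n x := by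
  rw [cechD_apply (mapNerve G π) P n x, cechD_apply (nerveOf π) (G.op ⋙ P) n x]
  refine Finset.sum_congr rfl fun i _ => ?_
  rw [mapNerve_face]
  rfl

/-- The map of powers induced by a map of arrows. -/
def nerveMap {W' W W₁' W₁ : C} {π : W' ⟶ W} {π₁ : W₁' ⟶ W₁} (N : Nerve π) (N₁ : Nerve π₁)
    (a : W₁' ⟶ W') (b : W₁ ⟶ W) (h : a ≫ π = π₁ ≫ b) (n : ℕ) : N₁.obj n ⟶ N.obj n :=
  N.lift n (fun k => N₁.pr n k ≫ a) fun k => by
    rw [Category.assoc, Category.assoc, h, ← Category.assoc, N₁.w n k, Category.assoc]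

theorem nerveMap_face {W' W W₁' W₁ : C} {π : W' ⟶ W} {π₁ : W₁' ⟶ W₁} (N : Nerve π) (N₁ : Nerve π₁)
    (a : W₁' ⟶ W') (b : W₁ ⟶ W) (h : a ≫ π = π₁ ≫ b) (n : ℕ) (i : Fin (n + 2)) :
    nerveMap N N₁ a b h (n + 1) ≫ N.face n i = N₁.face n i ≫ nerveMap N N₁ a b h n := by
  refine N.ext n _ _ fun k => ?_
  rw [Category.assoc, Category.assoc, N.face_pr, nerveMap, nerveMap, N.fac, N.fac, ← Category.assoc, N₁.face_pr]

theorem cechD_nerveMap {W' W W₁' W₁ : C} {π : W' ⟶ W} {π₁ : W₁' ⟶ W₁} (N : Nerve π) (N₁ : Nerve π₁)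
    (a : W₁' ⟶ W') (b : W₁ ⟶ W) (h : a ≫ π = π₁ ≫ b) (P : Cᵒᵖ ⥤ AddCommGrpCat.{u + 1}) (n : ℕ)
    (x : P.obj (op (N.obj n))) :
    cechD N₁ P n (P.map (nerveMap N N₁ a b h n).op x) = P.map (nerveMap N N₁ a b h (n + 1)).op (cechD N P n x) := by
  rw [cechD_apply, cechD_apply, map_sum]
  refine Finset.sum_congr rfl fun i _ => ?_
  rw [map_zsmul, ← ConcreteCategory.comp_apply, ← ConcreteCategory.comp_apply, ← P.map_comp, ← P.map_comp,
    ← op_comp, ← op_comp, nerveMap_face]

/-- Čech exactness only depends on the arrow up to isomorphism. -/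
theorem hExact_of_arrow_iso {W' W W₁' W₁ : C} {π : W' ⟶ W} {π₁ : W₁' ⟶ W₁} (N : Nerve π) (N₁ : Nerve π₁)
    (a : W₁' ≅ W') (b : W₁ ≅ W) (h : a.hom ≫ π = π₁ ≫ b.hom) (P : Cᵒᵖ ⥤ AddCommGrpCat.{u + 1}) (n : ℕ)
    (hN : HExact N₁ P n) : HExact N P n := by
  have h' : a.inv ≫ π₁ = π ≫ b.inv := by
    rw [Iso.inv_comp_eq, ← Category.assoc, h, Category.assoc, b.hom_inv_id, Category.comp_id]
  have hid : ∀ m, nerveMap N₁ N a.inv b.inv h' m ≫ nerveMap N N₁ a.hom b.hom h m = 𝟙 _ := fun m => by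
    refine N.ext m _ _ fun k => ?_
    rw [Category.assoc, nerveMap, nerveMap, N.fac, ← Category.assoc, N₁.fac, Category.assoc, a.inv_hom_id,
      Category.comp_id, Category.id_comp]
  intro x hx
  obtain ⟨y, hy⟩ := hN (P.map (nerveMap N N₁ a.hom b.hom h (n + 1)).op x) (by
    rw [cechD_nerveMap, hx, map_zero])
  refine ⟨P.map (nerveMap N₁ N a.inv b.inv h' n).op y, ?_⟩
  rw [cechD_nerveMap, hy, ← ConcreteCategory.comp_apply, ← P.map_comp, ← op_comp, hid, op_id, P.map_id]
  rfl

end Nerves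

variable {I : Type u} [SmallCategory I] {D : I ⥤ Scheme.{u}}

/-- The nerve of a morphism over one stage, in the total site. -/
def inclNerve {k : I} {W' W : (D.obj k).Etale} (π : W' ⟶ W) : Nerve ((incl D k).map π) where
  obj n := (incl D k).obj (pow π n).left
  pr n j := (incl D k).map (powPr π n j)
  w n j := by rw [← (incl D k).map_comp, ← (incl D k).map_comp, powPr_w, powPr_w]
  lift n T t h :=
    ⟨(t 0).a, powLift π (Scheme.Etale.forget (D.obj k) ⋙ Over.forget (D.obj k)) n (fun j => (t j).g)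
        (fun j => congrArg Hom.g (h j)), by
      have e := powLift_pr π (Scheme.Etale.forget (D.obj k) ⋙ Over.forget (D.obj k)) n (fun j => (t j).g)
        (fun j => congrArg Hom.g (h j)) 0
      show powLift π (Scheme.Etale.forget (D.obj k) ⋙ Over.forget (D.obj k)) n (fun j => (t j).g)
        (fun j => congrArg Hom.g (h j)) ≫ (pow π n).left.hom = _
      refine (congrArg (powLift π (Scheme.Etale.forget (D.obj k) ⋙ Over.forget (D.obj k)) n (fun j => (t j).g)
        (fun j => congrArg Hom.g (h j)) ≫ ·) (MorphismProperty.Over.w (powPr π n 0)).symm).trans ?_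
      exact (Category.assoc _ _ _).symm.trans ((congrArg (· ≫ W'.hom) e).trans (t 0).w)⟩
  fac n T t h j := hom_ext'
    ((Category.comp_id _).trans (by
      have e := congrArg Hom.a (h j)
      exact (Category.comp_id _).symm.trans (e.symm.trans (Category.comp_id _))))
    (powLift_pr π (Scheme.Etale.forget (D.obj k) ⋙ Over.forget (D.obj k)) n (fun j => (t j).g) (fun j => congrArg Hom.g (h j)) j)
  ext n T x y h := hom_ext' ((Category.comp_id _).symm.trans ((congrArg Hom.a (h 0)).trans (Category.comp_id _)))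
    (pow_hom_ext π (Scheme.Etale.forget (D.obj k) ⋙ Over.forget (D.obj k)) n _ _ fun j => congrArg Hom.g (h j))

theorem inclNerve_face {k : I} {W' W : (D.obj k).Etale} (π : W' ⟶ W) (n : ℕ) (i : Fin (n + 2)) :
    (inclNerve π).face n i = (incl D k).map ((nerveOf π).face n i) := by
  refine (inclNerve π).ext n _ _ fun j => ?_
  rw [Nerve.face_pr]
  show (incl D k).map _ = (incl D k).map _ ≫ (incl D k).map _
  rw [← (incl D k).map_comp]
  exact congrArg (incl D k).map ((nerveOf π).face_pr n i j).symm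

theorem hExact_fib_injective (J : Sheaf (topology D) AddCommGrpCat.{u + 1}) [Injective J] {k : I}
    {W' W : (D.obj k).Etale} {π : W' ⟶ W} (N : Nerve π) (n : ℕ) : HExact N ((fib k).obj J).obj n := by
  refine hExact_of_arrow_iso N (nerveOf π) (Iso.refl _) (Iso.refl _) (by simp) _ n fun x hx => ?_
  have key : ∀ (m : ℕ) (y : ((fib k).obj J).obj.obj (op ((nerveOf π).obj m))),
      cechD (inclNerve π) J.obj m y = cechD (nerveOf π) ((fib k).obj J).obj m y := fun m y => by
    rw [cechD_apply (inclNerve π) J.obj m y, cechD_apply (nerveOf π) ((fib k).obj J).obj m y]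
    refine Finset.sum_congr rfl fun i _ => ?_
    rw [inclNerve_face]
    rfl
  obtain ⟨y, hy⟩ := hExact_injective_sheaf J (inclNerve π) n x ((key _ x).trans hx)
  exact ⟨y, (key _ y).symm.trans hy⟩

theorem cechAcyclicQ_fib (J : Sheaf (topology D) AddCommGrpCat.{u + 1}) [Injective J] (k : I) :
    CechAcyclicQ ((fib k).obj J) := fun _ _ π _ _ _ n => hExact_fib_injective J (nerveOf π) n

variable [IsCofiltered I] {c : Cone D} (hc : IsLimit c)
  [∀ (i j : I) (f : i ⟶ j), IsAffineHom (D.map f)]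
  [∀ i, CompactSpace (D.obj i)] [∀ i, QuasiSeparatedSpace (D.obj i)]
  {J : Sheaf (topology D) AddCommGrpCat.{u + 1}} [Injective J] {C : Coc c J} (hC : C.IsLim)

theorem cart_bc_map {k k' : I} (a' : k' ⟶ k) {V V' : (D.obj k).Etale} (g : V ⟶ V') :
    (incl D k').map ((EtCoh.bc (D.map a')).map g) ≫ cart ((incl D k).obj V') a' =
      cart ((incl D k).obj V) a' ≫ (incl D k).map g :=
  hom_ext' ((Category.id_comp _).trans (Category.comp_id _).symm) (DescSecLib.bc_map_fst _ _)

theorem gmap_bc_map (G : EtCoh.Ab c.pt) {k k' : I} (a' : k' ⟶ k) {V V' : (D.obj k).Etale} (g : V ⟶ V')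
    (y : G.obj.obj (op ((uF c).obj ((incl D k).obj V')))) :
    G.obj.map ((uF c).map ((incl D k').map ((EtCoh.bc (D.map a')).map g))).op
        (G.obj.map ((uF c).map (cart ((incl D k).obj V') a')).op y) =
      G.obj.map ((uF c).map (cart ((incl D k).obj V) a')).op
        (G.obj.map ((EtCoh.bc (c.π.app k)).map g).op y) := by
  rw [gmap_map, gmap_map, ← uF_map_incl c k g, ← (uF c).map_comp, ← (uF c).map_comp, cart_bc_map]

theorem fib_bc_map (P : Sheaf (topology D) AddCommGrpCat.{u + 1}) {k k₁ k₂ : I} (a : k₁ ⟶ k) (e : k₂ ⟶ k₁)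
    {V V' : (D.obj k).Etale} (g : V ⟶ V') (s : P.obj.obj (op (bcObj ((incl D k).obj V') a))) :
    P.obj.map ((incl D k₂).map ((EtCoh.bc (D.map (e ≫ a))).map g)).op
        (P.obj.map (liftBc (cart ((incl D k).obj V') (e ≫ a)) a e rfl).op s) =
      P.obj.map (liftBc (cart ((incl D k).obj V) (e ≫ a)) a e rfl).op
        (P.obj.map ((incl D k₁).map ((EtCoh.bc (D.map a)).map g)).op s) := by
  rw [map_map, map_map]
  refine congrArg (fun q : bcObj ((incl D k).obj V) (e ≫ a) ⟶ bcObj ((incl D k).obj V') a => P.obj.map q.op s)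
    (bc_hom_unique _ _ ?_ ?_)
  · exact (Category.id_comp _).trans (Category.comp_id _).symm
  · rw [Category.assoc, Category.assoc, liftBc_cart, cart_bc_map, cart_bc_map, ← Category.assoc, liftBc_cart]

/-- The Čech differential of a base change to an earlier stage. -/
def fibD (P : Sheaf (topology D) AddCommGrpCat.{u + 1}) {k k' : I} (a' : k' ⟶ k)
    {W' W : (D.obj k).Etale} (π : W' ⟶ W) (m : ℕ) :
    P.obj.obj (op (bcObj ((incl D k).obj (pow π m).left) a')) →+
      P.obj.obj (op (bcObj ((incl D k).obj (pow π (m + 1)).left) a')) :=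
  cechD (nerveOf π) ((EtCoh.bc (D.map a')).op ⋙ ((fib k').obj P).obj) m

/-- The Čech differential at the cone point. -/
def limD (G : EtCoh.Ab c.pt) {k : I} {W' W : (D.obj k).Etale} (π : W' ⟶ W) (m : ℕ) :
    G.obj.obj (op ((uF c).obj ((incl D k).obj (pow π m).left))) →+
      G.obj.obj (op ((uF c).obj ((incl D k).obj (pow π (m + 1)).left))) :=
  cechD (mapNerve (EtCoh.bc (c.π.app k)) π) G.obj m

theorem η_cechD {P : Sheaf (topology D) AddCommGrpCat.{u + 1}} (C : Coc c P) {k k' : I} (a' : k' ⟶ k)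
    {W' W : (D.obj k).Etale} (π : W' ⟶ W) (m : ℕ)
    (y : P.obj.obj (op (bcObj ((incl D k).obj (pow π m).left) a'))) :
    C.η.app (op (bcObj ((incl D k).obj (pow π (m + 1)).left) a'))
        (fibD P a' π m y) =
      ∑ i : Fin (m + 2), ((-1 : ℤ) ^ (i : ℕ)) •
        C.G.obj.map ((uF c).map ((incl D k').map ((EtCoh.bc (D.map a')).map ((nerveOf π).face m i)))).op
          (C.η.app (op (bcObj ((incl D k).obj (pow π m).left) a')) y) := by
  refine (congrArg (C.η.app _) (cechD_apply (nerveOf π) ((EtCoh.bc (D.map a')).op ⋙ ((fib k').obj P).obj) m y)).trans ?_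
  rw [map_sum]
  refine Finset.sum_congr rfl fun i _ => ?_
  rw [map_zsmul]
  exact congrArg _ (C.η_nat ((incl D k').map ((EtCoh.bc (D.map a')).map ((nerveOf π).face m i))) y)

theorem gmap_cechD (G : EtCoh.Ab c.pt) {k k' : I} (a' : k' ⟶ k) {W' W : (D.obj k).Etale} (π : W' ⟶ W) (m : ℕ)
    (y : G.obj.obj (op ((uF c).obj ((incl D k).obj (pow π m).left)))) :
    (∑ i : Fin (m + 2), ((-1 : ℤ) ^ (i : ℕ)) •
        G.obj.map ((uF c).map ((incl D k').map ((EtCoh.bc (D.map a')).map ((nerveOf π).face m i)))).op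
          (G.obj.map ((uF c).map (cart ((incl D k).obj (pow π m).left) a')).op y)) =
      G.obj.map ((uF c).map (cart ((incl D k).obj (pow π (m + 1)).left) a')).op
        (limD G π m y) := by
  refine Eq.trans ?_ (congrArg (G.obj.map _) ((cechD_mapNerve (EtCoh.bc (c.π.app k)) π G.obj m y).trans
    (cechD_apply (nerveOf π) ((EtCoh.bc (c.π.app k)).op ⋙ G.obj) m y))).symm
  rw [map_sum]
  refine Finset.sum_congr rfl fun i _ => ?_
  rw [map_zsmul]
  refine congrArg _ ?_
  exact gmap_bc_map G a' ((nerveOf π).face m i) y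

theorem fib_cechD_trans (P : Sheaf (topology D) AddCommGrpCat.{u + 1}) {k k₁ k₂ : I} (a : k₁ ⟶ k) (e : k₂ ⟶ k₁)
    {W' W : (D.obj k).Etale} (π : W' ⟶ W) (m : ℕ)
    (s : P.obj.obj (op (bcObj ((incl D k).obj (pow π m).left) a))) :
    fibD P (e ≫ a) π m
        (P.obj.map (liftBc (cart ((incl D k).obj (pow π m).left) (e ≫ a)) a e rfl).op s) =
      P.obj.map (liftBc (cart ((incl D k).obj (pow π (m + 1)).left) (e ≫ a)) a e rfl).op
        (fibD P a π m s) := by
  refine (cechD_apply (nerveOf π) ((EtCoh.bc (D.map (e ≫ a))).op ⋙ ((fib k₂).obj P).obj) m _).trans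
    (Eq.trans ?_ (congrArg (P.obj.map _) (cechD_apply (nerveOf π) ((EtCoh.bc (D.map a)).op ⋙ ((fib k₁).obj P).obj) m s)).symm)
  rw [map_sum]
  refine Finset.sum_congr rfl fun i _ => ?_
  rw [map_zsmul]
  refine congrArg _ ?_
  exact fib_bc_map P a e ((nerveOf π).face m i) s

theorem qcqs_pow {k : I} {W' W : (D.obj k).Etale} (π : W' ⟶ W) (hW' : W' ∈ qcqsObj (D.obj k))
    (hW : W ∈ qcqsObj (D.obj k)) (m : ℕ) :
    CompactSpace ((incl D k).obj (pow π m).left).V.left ∧ QuasiSeparatedSpace ((incl D k).obj (pow π m).left).V.left :=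
  pow_mem_qcqsObj π hW' hW m

include hc hC in
theorem exists_stage_cycle {k : I} {W' W : (D.obj k).Etale} (π : W' ⟶ W) (hW' : W' ∈ qcqsObj (D.obj k))
    (hW : W ∈ qcqsObj (D.obj k)) (m : ℕ)
    (x : C.G.obj.obj (op ((uF c).obj ((incl D k).obj (pow π m).left)))) (hx : limD C.G π m x = 0) :
    ∃ (k₂ : I) (a₂ : k₂ ⟶ k) (s₂ : J.obj.obj (op (bcObj ((incl D k).obj (pow π m).left) a₂))),
      C.η.app (op (bcObj ((incl D k).obj (pow π m).left) a₂)) s₂ =
        C.G.obj.map ((uF c).map (cart ((incl D k).obj (pow π m).left) a₂)).op x ∧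
      fibD J a₂ π m s₂ = 0 := by
  haveI := (qcqs_pow π hW' hW m).1
  haveI := (qcqs_pow π hW' hW m).2
  obtain ⟨k₁, a, s, hs⟩ := exists_stage_lift hc hC ((incl D k).obj (pow π m).left) x
  haveI hA₂' := (qcqs_pow π hW' hW (m + 1)).1
  haveI hA₂ := @compactSpace_bcObj _ _ _ _ _ _ _ ((incl D k).obj (pow π (m + 1)).left) hA₂' _ a
  obtain ⟨k₂, e, he⟩ := exists_stage_zero hc hC (bcObj ((incl D k).obj (pow π (m + 1)).left) a)
      (fibD J a π m s) (by
    refine (η_cechD C a π m s).trans ?_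
    rw [hs]
    refine (gmap_cechD C.G a π m x).trans ?_
    rw [hx, map_zero])
  refine ⟨k₂, e ≫ a, J.obj.map (liftBc (cart ((incl D k).obj (pow π m).left) (e ≫ a)) a e rfl).op s, ?_, ?_⟩
  · rw [C.η_nat, hs, gmap_map, ← (uF c).map_comp, liftBc_cart]
  · refine (fib_cechD_trans J a e π m s).trans ?_
    rw [show liftBc (cart ((incl D k).obj (pow π (m + 1)).left) (e ≫ a)) a e rfl =
        liftBc (liftBc (cart ((incl D k).obj (pow π (m + 1)).left) (e ≫ a)) a e rfl) e (𝟙 k₂) (Category.id_comp _) ≫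
          cart (bcObj ((incl D k).obj (pow π (m + 1)).left) a) e from
      (liftBc_cart _ _ _ _).symm, ← map_map, he, map_zero]

include hc hC in
theorem hExact_limit {k : I} {W' W : (D.obj k).Etale} (π : W' ⟶ W) (hW' : W' ∈ qcqsObj (D.obj k))
    (hW : W ∈ qcqsObj (D.obj k)) (n : ℕ) :
    HExact (mapNerve (EtCoh.bc (c.π.app k)) π) C.G.obj n := by
  intro x hx
  obtain ⟨k₂, a₂, s₂, hs₂, hds⟩ := exists_stage_cycle hc hC π hW' hW (n + 1) x hx
  obtain ⟨y, hy⟩ := hExact_fib_injective J (mapNerve (EtCoh.bc (D.map a₂)) π) n s₂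
    ((cechD_mapNerve _ _ _ _ _).trans hds)
  rw [cechD_mapNerve] at hy
  haveI := isIso_uF_cart (c := c) ((incl D k).obj (pow π n).left) a₂
  haveI := isIso_uF_cart (c := c) ((incl D k).obj (pow π (n + 1)).left) a₂
  let g : C.G.obj.obj (op ((uF c).obj ((incl D k).obj (pow π n).left))) :=
    C.G.obj.map (inv ((uF c).map (cart ((incl D k).obj (pow π n).left) a₂))).op
      (C.η.app (op (bcObj ((incl D k).obj (pow π n).left) a₂)) y)
  refine ⟨g, ?_⟩
  have hinj : Function.Injective (C.G.obj.map ((uF c).map (cart ((incl D k).obj (pow π (n + 1)).left) a₂)).op) :=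
    (ConcreteCategory.bijective_of_isIso _).1
  apply hinj
  refine (gmap_cechD C.G a₂ π n g).symm.trans ?_
  have hg : C.G.obj.map ((uF c).map (cart ((incl D k).obj (pow π n).left) a₂)).op g =
      C.η.app (op (bcObj ((incl D k).obj (pow π n).left) a₂)) y := by
    rw [gmap_map, IsIso.hom_inv_id, op_id, C.G.obj.map_id]
    rfl
  rw [hg, ← η_cechD C a₂ π n y]
  exact (congrArg (C.η.app _) hy).trans hs₂

include hc hC in
theorem cechAcyclicQ_limit : CechAcyclicQ C.G := by
  intro W' W π hW' hW _ n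
  haveI := hW'.1; haveI := hW'.2; haveI := hW.1; haveI := hW.2
  obtain ⟨A', hA'c, hA'q, ⟨e'⟩⟩ := exists_obj hc W'
  obtain ⟨A, hAc, hAq, ⟨e⟩⟩ := exists_obj hc W
  obtain ⟨k, a', a, m, hm⟩ := exists_hom hc A' A (e'.hom ≫ π ≫ e.inv)
  haveI := isIso_uF_cart (c := c) A' a'
  haveI := isIso_uF_cart (c := c) A a
  refine hExact_of_arrow_iso (nerveOf π) (mapNerve (EtCoh.bc (c.π.app k)) m)
    (asIso ((uF c).map (cart A' a')) ≪≫ e') (asIso ((uF c).map (cart A a)) ≪≫ e) ?_ _ n
    (hExact_limit hc hC m ⟨compactSpace_bcObj A' a', quasiSeparatedSpace_bcObj A' a'⟩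
      ⟨compactSpace_bcObj A a, quasiSeparatedSpace_bcObj A a⟩ n)
  rw [← uF_map_incl]
  show ((uF c).map (cart A' a') ≫ e'.hom) ≫ π = (uF c).map ((incl D k).map m) ≫ (uF c).map (cart A a) ≫ e.hom
  rw [← Category.assoc ((uF c).map ((incl D k).map m)), hm]
  simp

end EtContLib
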