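import Groth.Agent.EtContLib.Cohom
import Groth.Agent.EtContLib.Acyclic

/-!
# The cohomology maps of a sheaf on the total site
-/

set_option autoImplicit false
set_option linter.unusedSectionVars false
set_option linter.style.haveILetI false
set_option backward.isDefEq.respectTransparency false
set_option backward.isDefEq.respectTransparency.types false
set_option synthInstance.maxHeartbeats 400000
set_option maxHeartbeats 1000000

universe u

open CategoryTheory CategoryTheory.Limits CategoryTheory.Abelian AlgebraicGeometry Opposite DescSecLib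
open Groth.Agent.EtShLib

noncomputable section

namespace EtContLib

attribute [local instance] EtSliceLib.pullExact

variable {I : Type u} [SmallCategory I] {D : I ⥤ Scheme.{u}}

/-- The transition map of a sheaf on the total site. -/
def trans (P : Sheaf (topology D) AddCommGrpCat.{u + 1}) {k j : I} (a : k ⟶ j) :
    (fib j).obj P ⟶ (EtCoh.push (D.map a)).obj ((fib k).obj P) :=
  ObjectProperty.homMk
    { app := fun V => P.obj.map (cart ((incl D j).obj V.unop) a).op
      naturality := fun V W g => by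
        show P.obj.map ((incl D j).map g.unop).op ≫ P.obj.map _ =
          P.obj.map _ ≫ P.obj.map ((incl D k).map ((EtCoh.bc (D.map a)).map g.unop)).op
        rw [← P.obj.map_comp, ← P.obj.map_comp, ← op_comp, ← op_comp]
        exact congrArg (fun t => P.obj.map (Quiver.Hom.op t))
          (hom_ext' ((Category.id_comp _).trans (Category.comp_id _).symm) (DescSecLib.bc_map_fst _ _)).symm }

theorem trans_naturality {P Q : Sheaf (topology D) AddCommGrpCat.{u + 1}} (φ : P ⟶ Q) {k j : I} (a : k ⟶ j) :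
    (fib j).map φ ≫ trans Q a = trans P a ≫ (EtCoh.push (D.map a)).map ((fib k).map φ) := by
  refine Sheaf.hom_ext (NatTrans.ext ?_)
  funext V
  exact (φ.hom.naturality (cart ((incl D j).obj V.unop) a).op).symm

theorem trans_comp (P : Sheaf (topology D) AddCommGrpCat.{u + 1}) {l k j : I} (e : l ⟶ k) (a : k ⟶ j) :
    trans P a ≫ (EtCoh.push (D.map a)).map (trans P e) =
      trans P (e ≫ a) ≫ (etPc (D.map e) (D.map a) (D.map (e ≫ a)) (D.map_comp e a).symm).app _ := by
  refine Sheaf.hom_ext (NatTrans.ext ?_)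
  funext V
  show P.obj.map _ ≫ P.obj.map _ =
    P.obj.map _ ≫ P.obj.map ((incl D l).map (bcCompHom (D.map e) (D.map a) (D.map (e ≫ a)) (D.map_comp e a).symm V.unop)).op
  rw [← P.obj.map_comp, ← P.obj.map_comp, ← op_comp, ← op_comp]
  exact congrArg (fun t => P.obj.map (Quiver.Hom.op t))
    (hom_ext' (Category.id_comp _).symm (bcCompHom_fst (D.map e) (D.map a) (D.map (e ≫ a)) (D.map_comp e a).symm V.unop).symm)

/-- The transition map on cohomology. -/
def tmap (P : Sheaf (topology D) AddCommGrpCat.{u + 1}) {k j : I} (a : k ⟶ j) (n : ℕ) :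
    EtCoh.H (D.obj j) ((fib j).obj P) n →+ EtCoh.H (D.obj k) ((fib k).obj P) n :=
  EtLim.HpullThen (D.map a) _ (adjL (D.map a) (trans P a)) n

theorem tmap_tmap (P : Sheaf (topology D) AddCommGrpCat.{u + 1}) {l k j : I} (e : l ⟶ k) (a : k ⟶ j) (n : ℕ)
    (x : EtCoh.H (D.obj j) ((fib j).obj P) n) : tmap P e n (tmap P a n x) = tmap P (e ≫ a) n x :=
  HpullThen_comp _ _ _ (D.map_comp e a).symm (trans P a) (trans P e) (trans P (e ≫ a)) (trans_comp P e a) n x

theorem tmap_postcomp {P Q : Sheaf (topology D) AddCommGrpCat.{u + 1}} (φ : P ⟶ Q) {k j : I} (a : k ⟶ j) (n : ℕ)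
    (x : EtCoh.H (D.obj j) ((fib j).obj P) n) :
    tmap Q a n (x.comp (Ext.mk₀ ((fib j).map φ)) (add_zero n)) =
      (tmap P a n x).comp (Ext.mk₀ ((fib k).map φ)) (add_zero n) :=
  HpullThen_postcomp _ _ _ _ _ (trans_naturality φ a) n x

theorem tmap_delta {S : ShortComplex (Sheaf (topology D) AddCommGrpCat.{u + 1})} (hS : S.ShortExact) {k j : I}
    (a : k ⟶ j) {n : ℕ} (x : EtCoh.H (D.obj j) ((fib j).obj S.X₃) n) :
    tmap S.X₁ a (n + 1) (Ext.comp x (shortExact_fib hS j).extClass rfl) =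
      Ext.comp (tmap S.X₃ a n x) (shortExact_fib hS k).extClass rfl :=
  HpullThen_delta (D.map a) (shortExact_fib hS j) (shortExact_fib hS k) (trans S.X₁ a) (trans S.X₂ a)
    (trans S.X₃ a) (trans_naturality S.f a) (trans_naturality S.g a) x

variable {c : Cone D} {P Q : Sheaf (topology D) AddCommGrpCat.{u + 1}}

/-- The map to the cohomology of the cone point. -/
def hmap (C : Coc c P) (i : I) (n : ℕ) :
    EtCoh.H (D.obj i) ((fib i).obj P) n →+ EtCoh.H c.pt C.G n :=
  EtLim.HpullThen (c.π.app i) _ (adjL (c.π.app i) (C.comp i)) n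

theorem comp_trans (C : Coc c P) {k j : I} (a : k ⟶ j) :
    trans P a ≫ (EtCoh.push (D.map a)).map (C.comp k) =
      C.comp j ≫ (etPc (c.π.app k) (D.map a) (c.π.app j) (c.w a)).app C.G := by
  refine Sheaf.hom_ext (NatTrans.ext ?_)
  funext V
  show P.obj.map (cart ((incl D j).obj V.unop) a).op ≫
      C.η.app (op (bcObj ((incl D j).obj V.unop) a)) = _
  refine (C.η.naturality (cart ((incl D j).obj V.unop) a).op).trans ?_
  exact congrArg (fun t => C.η.app _ ≫ C.G.obj.map (Quiver.Hom.op t))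
    (DescSecLib.bc_hom_ext _ _ _ ((uF_map_fst c _).trans (bcCompHom_fst (c.π.app k) (D.map a) (c.π.app j) (c.w a) V.unop).symm))

theorem hmap_tmap (C : Coc c P) {k j : I} (a : k ⟶ j) (n : ℕ) (x : EtCoh.H (D.obj j) ((fib j).obj P) n) :
    hmap C k n (tmap P a n x) = hmap C j n x :=
  HpullThen_comp _ _ _ (c.w a) (trans P a) (C.comp k) (C.comp j) (comp_trans C a) n x

theorem comp_naturality (C : Coc c P) (C' : Coc c Q) (φ : P ⟶ Q) (ψ : C.G ⟶ C'.G)
    (h : ∀ (A : Obj D) (s : P.obj.obj (op A)),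
      C'.η.app (op A) (φ.hom.app (op A) s) = ψ.hom.app (op ((uF c).obj A)) (C.η.app (op A) s)) (i : I) :
    (fib i).map φ ≫ C'.comp i = C.comp i ≫ (EtCoh.push (c.π.app i)).map ψ := by
  refine Sheaf.hom_ext (NatTrans.ext ?_)
  funext V
  exact ConcreteCategory.hom_ext _ _ fun s => h ⟨i, V.unop⟩ s

theorem hmap_postcomp (C : Coc c P) (C' : Coc c Q) (φ : P ⟶ Q) (ψ : C.G ⟶ C'.G)
    (h : ∀ (A : Obj D) (s : P.obj.obj (op A)),
      C'.η.app (op A) (φ.hom.app (op A) s) = ψ.hom.app (op ((uF c).obj A)) (C.η.app (op A) s)) (i : I) (n : ℕ)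
    (x : EtCoh.H (D.obj i) ((fib i).obj P) n) :
    hmap C' i n (x.comp (Ext.mk₀ ((fib i).map φ)) (add_zero n)) =
      (hmap C i n x).comp (Ext.mk₀ ψ) (add_zero n) :=
  HpullThen_postcomp _ _ _ _ _ (comp_naturality C C' φ ψ h i) n x

theorem hmap_lamMap (φ : P ⟶ Q) (i : I) (n : ℕ) (x : EtCoh.H (D.obj i) ((fib i).obj P) n) :
    hmap (lam c Q) i n (x.comp (Ext.mk₀ ((fib i).map φ)) (add_zero n)) =
      (hmap (lam c P) i n x).comp (Ext.mk₀ (lamMap c φ)) (add_zero n) :=
  hmap_postcomp _ _ φ (lamMap c φ) (fun A s => (lamMap_η c φ A s).symm) i n x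

theorem hmap_lamDesc (C : Coc c P) (i : I) (n : ℕ) (x : EtCoh.H (D.obj i) ((fib i).obj P) n) :
    hmap C i n x = (hmap (lam c P) i n x).comp (Ext.mk₀ (lamDesc c C)) (add_zero n) := by
  refine Eq.trans ?_ (hmap_postcomp (lam c P) C (𝟙 P) (lamDesc c C)
    (fun A s => (lamDesc_η c C A s).symm) i n x)
  rw [(fib i).map_id, Ext.comp_mk₀_id]

theorem lamMap_comp_eq_zero {R : Sheaf (topology D) AddCommGrpCat.{u + 1}} (φ : P ⟶ Q) (ψ : Q ⟶ R) (h : φ ≫ ψ = 0) :
    lamMap c φ ≫ lamMap c ψ = 0 := by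
  refine lam_hom_ext c _ _ fun A s => ?_
  show (lamMap c ψ).hom.app _ ((lamMap c φ).hom.app _ _) = 0
  rw [lamMap_η, lamMap_η]
  have h0 : ψ.hom.app (op A) (φ.hom.app (op A) s) = 0 :=
    ConcreteCategory.congr_hom (congrArg (fun t : P ⟶ R => t.hom.app (op A)) h) s
  rw [h0, map_zero]

/-- The sequence at the cone point. -/
abbrev lamSC (c : Cone D) (S : ShortComplex (Sheaf (topology D) AddCommGrpCat.{u + 1})) : ShortComplex (EtCoh.Ab c.pt) :=
  ShortComplex.mk (lamMap c S.f) (lamMap c S.g) (lamMap_comp_eq_zero S.f S.g S.zero)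

theorem exists_lift_of_epi {S : ShortComplex (Sheaf (topology D) AddCommGrpCat.{u + 1})} (hS : S.ShortExact)
    {Ω : Type u} [Field Ω] [IsSepClosed Ω] {ξ : Spec (CommRingCat.of Ω) ⟶ c.pt} {A : Obj D}
    (z : Fib ξ ((uF c).obj A)) (t : S.X₃.obj.obj (op A)) :
    ∃ (B : Obj D) (f : B ⟶ A) (z' : Fib ξ ((uF c).obj B)) (s : S.X₂.obj.obj (op B)),
      z'.map ((uF c).map f) = z ∧ S.g.hom.app (op B) s = S.X₃.obj.map f.op t := by
  haveI := hS.epi_g
  haveI : Sheaf.IsLocallySurjective S.g := (Sheaf.isLocallySurjective_iff_epi' _ S.g).2 inferInstance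
  obtain ⟨W, g, ⟨s, hs⟩, w, hw⟩ := (pt (ξ ≫ c.π.app A.i)).jointly_surjective _
    (functorPullback_mem (i := A.i) (V := A.V) (Presheaf.imageSieve_mem (topology D) S.g.hom (U := op A) t))
    (Fib.proj (c.π.app A.i) ξ z)
  refine ⟨(incl D A.i).obj W, (incl D A.i).map g, Fib.lift (c.π.app A.i) ξ w, s, ?_, hs⟩
  rw [uF_map_incl, ← Fib.lift_proj (c.π.app A.i) ξ (Fib.map _ _), Fib.proj_map, Fib.proj_lift]
  exact (congrArg (Fib.lift (c.π.app A.i) ξ) hw).trans (Fib.lift_proj _ _ _)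

theorem app_injective {P Q : Sheaf (topology D) AddCommGrpCat.{u + 1}} (φ : P ⟶ Q) [Mono φ] (A : (Obj D)ᵒᵖ) :
    Function.Injective (φ.hom.app A) := by
  haveI : Mono φ.hom := inferInstanceAs (Mono ((sheafToPresheaf _ _).map φ))
  exact (AddCommGrpCat.mono_iff_injective _).1 (inferInstanceAs (Mono (((evaluation _ _).obj A).map φ.hom)))

theorem exists_preimage {S : ShortComplex (Sheaf (topology D) AddCommGrpCat.{u + 1})} (hS : S.ShortExact)
    (A : Obj D) (s : S.X₂.obj.obj (op A)) (h : S.g.hom.app (op A) s = 0) :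
    ∃ p : S.X₁.obj.obj (op A), S.f.hom.app (op A) p = s := by
  haveI := hS.mono_f
  let F : Sheaf (topology D) AddCommGrpCat.{u + 1} ⥤ AddCommGrpCat.{u + 1} :=
    sheafToPresheaf _ _ ⋙ (evaluation _ _).obj (op A)
  have h0 : F.map S.f ≫ F.map S.g = 0 := by
    rw [← F.map_comp, S.zero]
    rfl
  haveI : PreservesFiniteLimits F := comp_preservesFiniteLimits _ _
  haveI : Mono (F.map S.f) := inferInstance
  have he : (ShortComplex.mk (F.map S.f) (F.map S.g) h0).Exact := by
    refine ShortComplex.exact_of_f_is_kernel _ ?_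
    exact KernelFork.mapIsLimit _ hS.fIsKernel F
  exact (ShortComplex.ab_exact_iff _).1 he s h

theorem shortExact_lamSC [IsCofiltered I] {S : ShortComplex (Sheaf (topology D) AddCommGrpCat.{u + 1})}
    (hS : S.ShortExact) : (lamSC c S).ShortExact := by
  haveI := hS.mono_f
  haveI : Mono (lamSC c S).f := by
    refine (mono_iff_stalks _).2 fun Ω _ _ ξ => (AddCommGrpCat.mono_iff_injective _).2
      ((injective_iff_map_eq_zero ((stk ξ).map (lamMap c S.f)).hom).2 fun q hq => ?_)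
    obtain ⟨A, z, s, rfl⟩ := (isLim_lam c S.X₁).gen Ω ξ q
    have hq' := (germ_lamMap c S.f ξ A z s).symm.trans hq
    obtain ⟨B, f, z', rfl, hs⟩ := (isLim_lam c S.X₂).van Ω ξ A z _ hq'
    rw [← NatTrans.naturality_apply S.f.hom f.op s] at hs
    have h0 : S.X₁.obj.map f.op s = 0 := app_injective S.f _ (hs.trans (map_zero _).symm)
    rw [← (lam c S.X₁).germ_η f z', h0, map_zero, map_zero]
  haveI : Epi (lamSC c S).g := by
    refine (epi_iff_stalks _).2 fun Ω _ _ ξ => (AddCommGrpCat.epi_iff_surjective _).2 fun q => ?_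
    obtain ⟨A, z, t, rfl⟩ := (isLim_lam c S.X₃).gen Ω ξ q
    obtain ⟨B, f, z', s, rfl, hs⟩ := exists_lift_of_epi hS z t
    refine ⟨germ ξ (lam c S.X₂).G ((uF c).obj B) z' ((lam c S.X₂).η.app (op B) s), ?_⟩
    rw [germ_lamMap, hs, (lam c S.X₃).germ_η f z']
  refine { exact := (exact_iff_stalks _).2 fun Ω _ _ ξ => (ShortComplex.ab_exact_iff _).2 fun q hq => ?_ }
  obtain ⟨A, z, s, rfl⟩ := (isLim_lam c S.X₂).gen Ω ξ q
  obtain ⟨B, f, z', rfl, hs⟩ := (isLim_lam c S.X₃).van Ω ξ A z _ ((germ_lamMap c S.g ξ A z s).symm.trans hq)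
  rw [← NatTrans.naturality_apply S.g.hom f.op s] at hs
  obtain ⟨p, hp⟩ := exists_preimage hS B _ hs
  refine ⟨germ ξ (lam c S.X₁).G ((uF c).obj B) z' ((lam c S.X₁).η.app (op B) p), ?_⟩
  refine (germ_lamMap c S.f ξ B z' p).trans ?_
  rw [hp, (lam c S.X₂).germ_η f z']

theorem hmap_delta [IsCofiltered I] {S : ShortComplex (Sheaf (topology D) AddCommGrpCat.{u + 1})} (hS : S.ShortExact)
    (i : I) {n : ℕ} (x : EtCoh.H (D.obj i) ((fib i).obj S.X₃) n) :
    hmap (lam c S.X₁) i (n + 1) (Ext.comp x (shortExact_fib hS i).extClass rfl) =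
      Ext.comp (hmap (lam c S.X₃) i n x) (shortExact_lamSC (c := c) hS).extClass rfl :=
  HpullThen_delta (c.π.app i) (shortExact_fib hS i) (shortExact_lamSC (c := c) hS) ((lam c S.X₁).comp i)
    ((lam c S.X₂).comp i) ((lam c S.X₃).comp i)
    (comp_naturality _ _ S.f (lamMap c S.f) (fun A s => (lamMap_η c S.f A s).symm) i)
    (comp_naturality _ _ S.g (lamMap c S.g) (fun A s => (lamMap_η c S.g A s).symm) i) x

end EtContLib
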