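import Groth.Agent.EtContLib.OfSys
import Groth.Agent.EtContLib.Main

/-!
# Continuity for systems with transition maps which are only compatible

The map attached to an identity is then an idempotent, and the system is replaced by its image.
-/

set_option autoImplicit false
set_option linter.unusedSectionVars false
set_option linter.style.haveILetI false
set_option backward.isDefEq.respectTransparency false
set_option backward.isDefEq.respectTransparency.types false
set_option synthInstance.maxHeartbeats 400000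
set_option maxHeartbeats 1000000

universe u

open CategoryTheory CategoryTheory.Limits CategoryTheory.Abelian AlgebraicGeometry Opposite DescSecLib
open Groth.Agent.EtShLib

noncomputable section

namespace EtContLib

attribute [local instance] EtSliceLib.pullExact

variable {I : Type u} [SmallCategory I] {D : I ⥤ Scheme.{u}}

theorem adjL_comp {A B C : Scheme.{u}} (a : A ⟶ B) (b : B ⟶ C) (c : A ⟶ C) (w : a ≫ b = c)
    {F : EtCoh.Ab C} {M : EtCoh.Ab B} {N : EtCoh.Ab A}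
    (β : F ⟶ (EtCoh.push b).obj M) (γ : M ⟶ (EtCoh.push a).obj N) (δ : F ⟶ (EtCoh.push c).obj N)
    (key : (EtCoh.pull a).map (adjL b β) ≫ adjL a γ = (etSys.c a b c w).app F ≫ adjL c δ) :
    β ≫ (EtCoh.push b).map γ = δ ≫ (etPc a b c w).app N := by
  let adj := fun {A B : Scheme.{u}} (a : A ⟶ B) => EtCoh.pullPushAdj a
  have l1 : (adj a).homEquiv _ _ ((EtCoh.pull a).map (adjL b β) ≫ adjL a γ) = adjL b β ≫ γ := by
    rw [Adjunction.homEquiv_naturality_left, adjL, Equiv.apply_symm_apply]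
  have l2 : (adj b).homEquiv _ _ (adjL b β ≫ γ) = β ≫ (EtCoh.push b).map γ := by
    rw [Adjunction.homEquiv_naturality_right, adjL, Equiv.apply_symm_apply]
  refine l2.symm.trans ((congrArg ((adj b).homEquiv _ _) l1.symm).trans ?_)
  rw [key, Adjunction.homEquiv_naturality_right, Adjunction.homEquiv_naturality_right]
  erw [etSys.homEquiv_c]
  rw [Category.assoc]
  refine (congrArg (fun t => (adj c).unit.app F ≫ t) ((etPc a b c w).naturality (adjL c δ)).symm).trans ?_
  refine (Category.assoc _ _ _).symm.trans (congrArg (fun t => t ≫ (etPc a b c w).app N) ?_)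
  exact ((Adjunction.homEquiv_unit _ _ _ _).symm).trans (Equiv.apply_symm_apply ((adj c).homEquiv F N) δ)

theorem pc_rho {k j : I} (a : k ⟶ j) (w : D.map (𝟙 k) ≫ D.map a = D.map a) (M : EtCoh.Ab (D.obj k)) :
    (etPc (D.map (𝟙 k)) (D.map a) (D.map a) w).app M ≫ (EtCoh.push (D.map a)).map (rho M) = 𝟙 _ := by
  refine Sheaf.hom_ext (NatTrans.ext ?_)
  funext V
  show M.obj.map (bcCompHom (D.map (𝟙 k)) (D.map a) (D.map a) w V.unop).op ≫
    M.obj.map (ret ((EtCoh.bc (D.map a)).obj V.unop)).op = 𝟙 _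
  rw [← M.obj.map_comp, ← op_comp]
  refine (congrArg (fun t => M.obj.map (Quiver.Hom.op t)) (?_ : _ = 𝟙 _)).trans (M.obj.map_id _)
  refine DescSecLib.bc_hom_ext _ _ _ ?_
  show (_ ≫ (bcCompHom _ _ _ _ V.unop).left) ≫ _ = _
  rw [Category.assoc, bcCompHom_fst, ← Category.assoc]
  erw [ret_fst]
  rfl

theorem pc_ret {X : Scheme.{u}} {i : I} (f : X ⟶ D.obj i) (w : f ≫ D.map (𝟙 i) = f) (M : EtCoh.Ab X) :
    (etPc f (D.map (𝟙 i)) f w).app M ≫ rho ((EtCoh.push f).obj M) = 𝟙 _ := by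
  refine Sheaf.hom_ext (NatTrans.ext ?_)
  funext V
  show M.obj.map (bcCompHom f (D.map (𝟙 i)) f w V.unop).op ≫ M.obj.map ((EtCoh.bc f).map (ret V.unop)).op = 𝟙 _
  rw [← M.obj.map_comp, ← op_comp]
  refine (congrArg (fun t => M.obj.map (Quiver.Hom.op t)) (?_ : _ = 𝟙 _)).trans (M.obj.map_id _)
  refine DescSecLib.bc_hom_ext _ _ _ ?_
  show (_ ≫ (bcCompHom _ _ _ _ V.unop).left) ≫ _ = _
  rw [Category.assoc, bcCompHom_fst, ← Category.assoc]
  erw [bc_map_fst]
  rw [Category.assoc, ret_fst]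
  exact (Category.comp_id _).trans (Category.id_comp _).symm

variable (D) in
/-- A system whose transition maps are only compatible with composition. -/
structure PreSys where
  /-- The sheaves. -/
  F : ∀ i, EtCoh.Ab (D.obj i)
  /-- The transition maps. -/
  τ : ∀ {k j : I} (a : k ⟶ j), F j ⟶ (EtCoh.push (D.map a)).obj (F k)
  comp : ∀ {l k j : I} (e : l ⟶ k) (a : k ⟶ j) (b : l ⟶ j) (hb : e ≫ a = b),
    τ a ≫ (EtCoh.push (D.map a)).map (τ e) =
      τ b ≫ (etPc (D.map e) (D.map a) (D.map b) ((D.map_comp e a).symm.trans (congrArg D.map hb))).app _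

namespace PreSys

variable (R : PreSys D)

/-- The idempotent attached to an identity. -/
def eps (i : I) : R.F i ⟶ R.F i := R.τ (𝟙 i) ≫ rho (R.F i)

theorem τ_push_eps {k j : I} (a : k ⟶ j) : R.τ a ≫ (EtCoh.push (D.map a)).map (R.eps k) = R.τ a := by
  rw [eps, Functor.map_comp, ← Category.assoc, R.comp (𝟙 k) a a (Category.id_comp a), Category.assoc, pc_rho,
    Category.comp_id]

theorem eps_τ {k j : I} (a : k ⟶ j) : R.eps j ≫ R.τ a = R.τ a := by
  rw [eps, Category.assoc, ← rho_naturality, ← Category.assoc, R.comp a (𝟙 j) a (Category.comp_id a),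
    Category.assoc, pc_ret, Category.comp_id]

theorem eps_idem (i : I) : R.eps i ≫ R.eps i = R.eps i := by
  show R.eps i ≫ R.τ (𝟙 i) ≫ rho (R.F i) = R.τ (𝟙 i) ≫ rho (R.F i)
  rw [← Category.assoc, eps_τ]

theorem exists_split (i : I) : ∃ (Y : EtCoh.Ab (D.obj i)) (s : Y ⟶ R.F i) (p : R.F i ⟶ Y),
    s ≫ p = 𝟙 Y ∧ p ≫ s = R.eps i :=
  IsIdempotentComplete.idempotents_split _ _ (R.eps_idem i)

/-- The image of the idempotent. -/
def im (i : I) : EtCoh.Ab (D.obj i) := (R.exists_split i).choose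

/-- Its inclusion. -/
def inc (i : I) : R.im i ⟶ R.F i := (R.exists_split i).choose_spec.choose

/-- Its projection. -/
def prj (i : I) : R.F i ⟶ R.im i := (R.exists_split i).choose_spec.choose_spec.choose

theorem inc_prj (i : I) : R.inc i ≫ R.prj i = 𝟙 _ := (R.exists_split i).choose_spec.choose_spec.choose_spec.1

theorem prj_inc (i : I) : R.prj i ≫ R.inc i = R.eps i := (R.exists_split i).choose_spec.choose_spec.choose_spec.2

theorem inc_τ {k j : I} (a : k ⟶ j) :
    (R.inc j ≫ R.τ a ≫ (EtCoh.push (D.map a)).map (R.prj k)) ≫ (EtCoh.push (D.map a)).map (R.inc k) =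
      R.inc j ≫ R.τ a := by
  rw [Category.assoc, Category.assoc, ← Functor.map_comp, prj_inc, τ_push_eps]

/-- The system of images. -/
def sys : Sys D where
  F := R.im
  τ a := R.inc _ ≫ R.τ a ≫ (EtCoh.push (D.map a)).map (R.prj _)
  comp {l k j} e a := by
    rw [Functor.map_comp, ← Category.assoc, inc_τ, Functor.map_comp, Category.assoc,
      ← Category.assoc (R.τ a), R.comp e a (e ≫ a) rfl, Category.assoc, Category.assoc, Category.assoc]
    refine congrArg (R.inc j ≫ ·) (congrArg (R.τ (e ≫ a) ≫ ·) ?_)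
    exact ((etPc (D.map e) (D.map a) (D.map (e ≫ a)) (D.map_comp e a).symm).naturality (R.prj l)).symm
  unit i := by
    rw [Category.assoc, Category.assoc, rho_naturality, ← Category.assoc (R.τ (𝟙 i))]
    show R.inc i ≫ R.eps i ≫ R.prj i = 𝟙 _
    rw [← prj_inc, Category.assoc, inc_prj, Category.comp_id, inc_prj]

variable {c : Cone D} (G : EtCoh.Ab c.pt) (ψ : ∀ i, R.F i ⟶ (EtCoh.push (c.π.app i)).obj G)
  (hψ : ∀ {k j : I} (a : k ⟶ j), R.τ a ≫ (EtCoh.push (D.map a)).map (ψ k) =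
    ψ j ≫ (etPc (c.π.app k) (D.map a) (c.π.app j) (c.w a)).app G)

include hψ in
theorem eps_ψ (i : I) : R.eps i ≫ ψ i = ψ i := by
  rw [eps, Category.assoc, ← rho_naturality, ← Category.assoc, hψ, Category.assoc, pc_ret, Category.comp_id]

include hψ in
theorem sys_ψ {k j : I} (a : k ⟶ j) : R.sys.τ a ≫ (EtCoh.push (D.map a)).map (R.inc k ≫ ψ k) =
    (R.inc j ≫ ψ j) ≫ (etPc (c.π.app k) (D.map a) (c.π.app j) (c.w a)).app G := by
    show (R.inc j ≫ R.τ a ≫ (EtCoh.push (D.map a)).map (R.prj k)) ≫ _ = _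
    rw [Functor.map_comp, ← Category.assoc, inc_τ, Category.assoc, hψ a]
    exact (Category.assoc _ _ _).symm

/-- The extension of the system of images. -/
def coc : Coc c R.sys.toSheaf :=
  R.sys.coc G (fun i => R.inc i ≫ ψ i) fun {k j} a => R.sys_ψ G ψ hψ a

theorem hmap_prj (i : I) (n : ℕ) (x : EtCoh.H (D.obj i) (R.F i) n) :
    hmap (R.coc G ψ hψ) i n ((x.comp (Ext.mk₀ (R.prj i)) (add_zero n)).comp
        (Ext.mk₀ (R.sys.fibIso i).inv) (add_zero n)) =
      EtLim.HpullThen (c.π.app i) (R.F i) (adjL (c.π.app i) (ψ i)) n x := by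
  refine (R.sys.hmap_fibIso G (fun i => R.inc i ≫ ψ i) (fun {k j} a => R.sys_ψ G ψ hψ a) i n _).symm.trans ?_
  rw [Ext.comp_assoc_of_second_deg_zero, Ext.mk₀_comp_mk₀, Iso.inv_hom_id, Ext.comp_mk₀_id]
  refine (HpullThen_postcomp (c.π.app i) (ψ i) (R.inc i ≫ ψ i) (R.prj i) (𝟙 G) ?_ n x).trans (Ext.comp_mk₀_id _)
  refine Eq.trans ?_ ((Category.comp_id (ψ i)).symm.trans
    (congrArg (ψ i ≫ ·) ((EtCoh.push (c.π.app i)).map_id G).symm))
  rw [← Category.assoc, prj_inc, R.eps_ψ G ψ hψ]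

variable [IsCofiltered I] (hc : IsLimit c)
  [∀ (i j : I) (f : i ⟶ j), IsAffineHom (D.map f)]
  [∀ i, CompactSpace (D.obj i)] [∀ i, QuasiSeparatedSpace (D.obj i)]

include hc in
theorem surjective (hC : (R.coc G ψ hψ).IsLim) (n : ℕ) (ξ : EtCoh.H c.pt G n) :
    ∃ (i : I) (x : EtCoh.H (D.obj i) (R.F i) n),
      EtLim.HpullThen (c.π.app i) (R.F i) (adjL (c.π.app i) (ψ i)) n x = ξ := by
  obtain ⟨i, y, hy⟩ := EtContLib.surjective hc (R.coc G ψ hψ) hC n ξ
  refine ⟨i, (y.comp (Ext.mk₀ (R.sys.fibIso i).hom) (add_zero n)).comp (Ext.mk₀ (R.inc i)) (add_zero n), ?_⟩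
  rw [← R.hmap_prj G ψ hψ]
  simp only [Ext.comp_assoc_of_second_deg_zero, Ext.mk₀_comp_mk₀]
  rw [Category.assoc (R.sys.fibIso i).hom (R.inc i)]
  erw [inc_prj, Category.comp_id, Iso.hom_inv_id, Ext.comp_mk₀_id]
  exact hy

include hc in
theorem eq_zero (hC : (R.coc G ψ hψ).IsLim) (n : ℕ) (i : I) (x : EtCoh.H (D.obj i) (R.F i) n)
    (h : EtLim.HpullThen (c.π.app i) (R.F i) (adjL (c.π.app i) (ψ i)) n x = 0) :
    ∃ (k : I) (a : k ⟶ i), EtLim.HpullThen (D.map a) (R.F i) (adjL (D.map a) (R.τ a)) n x = 0 := by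
  obtain ⟨k, a, ha⟩ := EtContLib.eq_zero hc (R.coc G ψ hψ) hC n i _ ((R.hmap_prj G ψ hψ i n x).trans h)
  refine ⟨k, a, ?_⟩
  have h1 := R.sys.tmap_fibIso a n ((x.comp (Ext.mk₀ (R.prj i)) (add_zero n)).comp
    (Ext.mk₀ (R.sys.fibIso i).inv) (add_zero n))
  rw [ha, Ext.zero_comp, Ext.comp_assoc_of_second_deg_zero, Ext.mk₀_comp_mk₀, Iso.inv_hom_id,
    Ext.comp_mk₀_id] at h1
  have h2 := HpullThen_postcomp (D.map a) (R.sys.τ a) (R.τ a) (R.inc i) (R.inc k) (R.inc_τ a).symm n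
    (x.comp (Ext.mk₀ (R.prj i)) (add_zero n))
  have h3 := HpullThen_postcomp (D.map a) (R.τ a) (R.τ a) (R.eps i) (𝟙 _)
    ((R.eps_τ a).trans ((Category.comp_id (R.τ a)).symm.trans
      (congrArg (R.τ a ≫ ·) ((EtCoh.push (D.map a)).map_id _).symm))) n x
  rw [Ext.comp_mk₀_id] at h3
  rw [← h3, ← prj_inc, ← Ext.mk₀_comp_mk₀, ← Ext.comp_assoc_of_second_deg_zero]
  exact h2.trans ((congrArg (fun t => Ext.comp t (Ext.mk₀ (R.inc k)) (add_zero n)) h1).trans (Ext.zero_comp _ _ _ _ _))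

end PreSys

end EtContLib
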