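import Groth.Agent.EtContLib.System

/-!
# Sheaves on the total site from compatible systems, and a criterion for limits
-/

set_option autoImplicit false
set_option linter.unusedSectionVars false
set_option linter.style.haveILetI false
set_option backward.isDefEq.respectTransparency false
set_option backward.isDefEq.respectTransparency.types false
set_option synthInstance.maxHeartbeats 400000
set_option maxHeartbeats 1000000

universe u

open CategoryTheory CategoryTheory.Limits CategoryTheory.Abelian AlgebraicGeometry Opposite DescSecLib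
open Groth.Agent.EtShLib

noncomputable section

namespace EtContLib

variable {I : Type u} [SmallCategory I] {D : I ⥤ Scheme.{u}}

/-- A presheaf on the total site which is a sheaf on every stage is a sheaf. -/
theorem isSheaf_of_fibres (P : (Obj D)ᵒᵖ ⥤ AddCommGrpCat.{u + 1})
    (h : ∀ i, Presheaf.IsSheaf (D.obj i).smallEtaleTopology ((incl D i).op ⋙ P)) :
    Presheaf.IsSheaf (topology D) P := by
  rw [Presheaf.isSheaf_iff_isSheaf_forget (topology D) P (forget AddCommGrpCat.{u + 1}), isSheaf_iff_isSheaf_of_type]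
  rintro ⟨i, V⟩ S hS x hx
  have hfib : ∀ j, Presieve.IsSheaf (D.obj j).smallEtaleTopology
      (((incl D j).op ⋙ P) ⋙ forget AddCommGrpCat.{u + 1}) := fun j =>
    (isSheaf_iff_isSheaf_of_type _ _).1 ((Presheaf.isSheaf_iff_isSheaf_forget _ _ _).1 (h j))
  let x' : Presieve.FamilyOfElements (((incl D i).op ⋙ P) ⋙ forget AddCommGrpCat.{u + 1})
      (S.functorPullback (incl D i)).arrows := fun W g hg => x ((incl D i).map g) hg
  have hx' : x'.Compatible := fun W₁ W₂ Z q₁ q₂ g₁ g₂ h₁ h₂ e =>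
    hx ((incl D i).map q₁) ((incl D i).map q₂) h₁ h₂ (by rw [← Functor.map_comp, ← Functor.map_comp, e])
  obtain ⟨t, ht, huniq⟩ := hfib i _ (functorPullback_mem (i := i) (V := V) hS) x' hx'
  refine ⟨t, fun B f hf => ?_, fun t' ht' => huniq t' fun W g hg => ht' _ hg⟩
  let S₁ : Sieve ((incl D i).obj V) := (S.functorPullback (incl D i)).functorPushforward (incl D i)
  have hS₁ : S₁ ∈ topology D ((incl D i).obj V) := fun y => by
    obtain ⟨W, g, hg, w, hw⟩ := hS y
    exact ⟨W, g, Sieve.image_mem_functorPushforward _ _ hg, w, hw⟩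
  have hT := functorPullback_mem (i := B.i) (V := B.V) ((topology D).pullback_stable f hS₁)
  refine ((hfib B.i).isSeparated _ hT).ext fun Z p hp => ?_
  obtain ⟨W, g, q, hg, e⟩ := hp
  show P.map ((incl D B.i).map p).op (P.map f.op t) = P.map ((incl D B.i).map p).op (x f hf)
  have h1 : P.map ((incl D i).map g).op t = x ((incl D i).map g) hg := ht g hg
  have h2 := hx q ((incl D B.i).map p) hg hf e.symm
  refine Eq.trans ?_ h2
  show _ = P.map q.op (x ((incl D i).map g) hg)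
  rw [← h1, ← ConcreteCategory.comp_apply, ← ConcreteCategory.comp_apply, ← P.map_comp, ← P.map_comp,
    ← op_comp, ← op_comp, e]

/-- The section of the projection from the base change along the identity. -/
def ret {i : I} (V : (D.obj i).Etale) : V ⟶ (EtCoh.bc (D.map (𝟙 i))).obj V := toBc (𝟙 ((incl D i).obj V))

theorem ret_fst {i : I} (V : (D.obj i).Etale) : (ret V).left ≫ pullback.fst V.hom (D.map (𝟙 i)) = 𝟙 V.left :=
  pullback.lift_fst _ _ _

theorem toBc_comp_aux {E : Type*} [Category E] {a a' b b' p₀ q₀ r₀ : E} {t : a ⟶ a'} {pf : a' ⟶ b} {fg : a ⟶ b}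
    {m : a' ⟶ p₀} {th : b ⟶ b'} {q : p₀ ⟶ b'} {k : p₀ ⟶ q₀} {p : q₀ ⟶ r₀} {pC : b' ⟶ r₀} {hg : b ⟶ r₀}
    (h₁ : t ≫ pf = fg) (h₂ : m ≫ q = pf ≫ th) (h₃ : k ≫ p = q ≫ pC) (h₄ : th ≫ pC = hg) :
    fg ≫ hg = (t ≫ m ≫ k) ≫ p := by
  subst h₁ h₄
  simp only [Category.assoc, h₃, reassoc_of% h₂]

theorem res_comp_aux {C : Type*} [Category C] {E : Type*} [Category E] (M : Cᵒᵖ ⥤ E) {P Q R T : C} (a : P ⟶ Q)
    (b : Q ⟶ R) (c : R ⟶ T) {o o' o'' : E} {τc : o ⟶ M.obj (op T)} {x : o ⟶ o'} {y' : o' ⟶ M.obj (op R)}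
    {m : o' ⟶ o''} {y : o'' ⟶ M.obj (op Q)} (hc : x ≫ y' = τc ≫ M.map c.op) (hn : m ≫ y = y' ≫ M.map b.op) :
    τc ≫ M.map (a ≫ b ≫ c).op = (x ≫ m) ≫ y ≫ M.map a.op := by
  rw [op_comp, op_comp, M.map_comp, M.map_comp, Category.assoc x, reassoc_of% hn, reassoc_of% hc, Category.assoc]

theorem toBc_fst {B A : Obj D} (f : B ⟶ A) : (toBc f).left ≫ pullback.fst A.V.hom (D.map f.a) = f.g :=
  pullback.lift_fst _ _ _

theorem ret_naturality {i : I} {V W : (D.obj i).Etale} (g : V ⟶ W) :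
    g ≫ ret W = ret V ≫ (EtCoh.bc (D.map (𝟙 i))).map g := by
  refine DescSecLib.bc_hom_ext _ _ _ ?_
  show (g.left ≫ (ret W).left) ≫ _ = ((ret V).left ≫ _) ≫ _
  rw [Category.assoc, Category.assoc, bc_map_fst, ← Category.assoc (ret V).left, ret_fst, ret_fst]
  exact (Category.comp_id _).trans (Category.id_comp _).symm

/-- Direct image along the identity of a stage. -/
def rho {i : I} (M : EtCoh.Ab (D.obj i)) : (EtCoh.push (D.map (𝟙 i))).obj M ⟶ M :=
  ObjectProperty.homMk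
    { app := fun V => M.obj.map (ret V.unop).op
      naturality := fun V W g => by
        show M.obj.map ((EtCoh.bc (D.map (𝟙 i))).map g.unop).op ≫ M.obj.map _ = M.obj.map _ ≫ M.obj.map g
        rw [← M.obj.map_comp, ← M.obj.map_comp]
        exact congrArg M.obj.map (Quiver.Hom.unop_inj (ret_naturality g.unop).symm) }

theorem rho_naturality {i : I} {M N : EtCoh.Ab (D.obj i)} (φ : M ⟶ N) :
    (EtCoh.push (D.map (𝟙 i))).map φ ≫ rho N = rho M ≫ φ := by
  refine Sheaf.hom_ext (NatTrans.ext ?_)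
  funext V
  exact (φ.hom.naturality _).symm

variable (D) in
/-- A compatible system of sheaves on the stages. -/
structure Sys where
  /-- The sheaves. -/
  F : ∀ i, EtCoh.Ab (D.obj i)
  /-- The transition maps. -/
  τ : ∀ {k j : I} (a : k ⟶ j), F j ⟶ (EtCoh.push (D.map a)).obj (F k)
  comp : ∀ {l k j : I} (e : l ⟶ k) (a : k ⟶ j), τ a ≫ (EtCoh.push (D.map a)).map (τ e) =
    τ (e ≫ a) ≫ (etPc (D.map e) (D.map a) (D.map (e ≫ a)) (D.map_comp e a).symm).app _
  unit : ∀ i, τ (𝟙 i) ≫ rho (F i) = 𝟙 (F i)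

namespace Sys

variable (S : Sys D)

/-- The restriction map of the presheaf of a system. -/
def res {A B : Obj D} (f : A ⟶ B) : (S.F B.i).obj.obj (op B.V) ⟶ (S.F A.i).obj.obj (op A.V) :=
  (S.τ f.a).hom.app (op B.V) ≫ (S.F A.i).obj.map (toBc f).op

theorem res_id (A : Obj D) : S.res (𝟙 A) = 𝟙 _ :=
  congrArg (fun t : S.F A.i ⟶ S.F A.i => t.hom.app (op A.V)) (S.unit A.i)

theorem res_comp {A B C : Obj D} (f : A ⟶ B) (h : B ⟶ C) : S.res (f ≫ h) = S.res h ≫ S.res f := by
  have key : (toBc (f ≫ h) : A.V ⟶ _) = toBc f ≫ (EtCoh.bc (D.map f.a)).map (toBc h) ≫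
      bcCompHom (D.map f.a) (D.map h.a) (D.map (f.a ≫ h.a)) (D.map_comp f.a h.a).symm C.V :=
    DescSecLib.bc_hom_ext _ _ _ ((toBc_fst (f ≫ h)).trans (toBc_comp_aux (toBc_fst f)
      (bc_map_fst (D.map f.a) (toBc h))
      (bcCompHom_fst (D.map f.a) (D.map h.a) (D.map (f.a ≫ h.a)) (D.map_comp f.a h.a).symm C.V) (toBc_fst h)))
  have hc := congrArg (fun t : S.F C.i ⟶ (EtCoh.push (D.map h.a)).obj ((EtCoh.push (D.map f.a)).obj (S.F A.i)) =>
    t.hom.app (op C.V)) (S.comp f.a h.a)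
  refine (congrArg (fun t => (S.τ (f.a ≫ h.a)).hom.app (op C.V) ≫ (S.F A.i).obj.map (Quiver.Hom.op t)) key).trans ?_
  exact res_comp_aux (S.F A.i).obj (toBc f) ((EtCoh.bc (D.map f.a)).map (toBc h)) _ hc
    ((S.τ f.a).hom.naturality (toBc h).op)

/-- The presheaf on the total site. -/
def presheaf : (Obj D)ᵒᵖ ⥤ AddCommGrpCat.{u + 1} where
  obj A := (S.F A.unop.i).obj.obj (op A.unop.V)
  map f := S.res f.unop
  map_id A := S.res_id A.unop
  map_comp f g := S.res_comp g.unop f.unop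

theorem res_incl {i : I} {V W : (D.obj i).Etale} (g : V ⟶ W) :
    S.res ((incl D i).map g) = (S.F i).obj.map g.op := by
  have h : (toBc ((incl D i).map g) : V ⟶ _) = g ≫ ret W := by
    refine DescSecLib.bc_hom_ext _ _ _ ?_
    refine (toBc_fst ((incl D i).map g)).trans ?_
    show _ = (g.left ≫ (ret W).left) ≫ _
    rw [Category.assoc, ret_fst]
    exact (Category.comp_id _).symm
  show (S.τ (𝟙 i)).hom.app (op W) ≫ (S.F i).obj.map (toBc ((incl D i).map g)).op = _
  rw [h, op_comp, Functor.map_comp, ← Category.assoc]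
  refine (congrArg (fun t => t ≫ (S.F i).obj.map g.op)
    (congrArg (fun t : S.F i ⟶ S.F i => t.hom.app (op W)) (S.unit i))).trans ?_
  exact Category.id_comp _

/-- The stages of the presheaf. -/
def presheafIso (i : I) : (incl D i).op ⋙ S.presheaf ≅ (S.F i).obj :=
  NatIso.ofComponents (fun V => Iso.refl ((S.F i).obj.obj V)) (fun {V W} g => by
    show S.res ((incl D i).map g.unop) ≫ 𝟙 _ = 𝟙 _ ≫ (S.F i).obj.map g
    rw [res_incl]
    simp)

/-- The sheaf on the total site. -/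
def toSheaf : Sheaf (topology D) AddCommGrpCat.{u + 1} :=
  ⟨S.presheaf, isSheaf_of_fibres _ fun i => (Presheaf.isSheaf_of_iso_iff (S.presheafIso i)).2 (S.F i).property⟩

/-- The stages of the sheaf. -/
def fibIso (i : I) : (fib i).obj S.toSheaf ≅ S.F i :=
  { hom := ObjectProperty.homMk (S.presheafIso i).hom
    inv := ObjectProperty.homMk (S.presheafIso i).inv
    hom_inv_id := Sheaf.hom_ext (S.presheafIso i).hom_inv_id
    inv_hom_id := Sheaf.hom_ext (S.presheafIso i).inv_hom_id }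

theorem fibIso_hom_app (i : I) (V : (D.obj i).Etaleᵒᵖ) : (S.fibIso i).hom.hom.app V = 𝟙 _ := rfl

theorem trans_fibIso {k j : I} (a : k ⟶ j) :
    trans S.toSheaf a ≫ (EtCoh.push (D.map a)).map (S.fibIso k).hom = (S.fibIso j).hom ≫ S.τ a := by
  refine Sheaf.hom_ext (NatTrans.ext ?_)
  funext V
  show S.res (cart ((incl D j).obj V.unop) a) ≫ 𝟙 _ = 𝟙 _ ≫ (S.τ a).hom.app V
  have h : (toBc (cart ((incl D j).obj V.unop) a) : _ ⟶ _) = 𝟙 ((EtCoh.bc (D.map a)).obj V.unop) := by
    refine DescSecLib.bc_hom_ext _ _ _ ((toBc_fst _).trans ?_)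
    exact (Category.id_comp _).symm
  show ((S.τ a).hom.app V ≫ (S.F k).obj.map (toBc (cart ((incl D j).obj V.unop) a)).op) ≫ 𝟙 _ = _
  rw [h, op_id]
  refine (Category.comp_id _).trans (Eq.trans ?_ (Category.id_comp _).symm)
  exact (congrArg ((S.τ a).hom.app V ≫ ·) ((S.F k).obj.map_id _)).trans (Category.comp_id _)

theorem tmap_fibIso {k j : I} (a : k ⟶ j) (n : ℕ) (x : EtCoh.H (D.obj j) ((fib j).obj S.toSheaf) n)
    [PreservesFiniteLimits (EtCoh.pull (D.map a))] :
    EtLim.HpullThen (D.map a) (S.F j) (adjL (D.map a) (S.τ a)) n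
        (x.comp (Ext.mk₀ (S.fibIso j).hom) (add_zero n)) =
      (tmap S.toSheaf a n x).comp (Ext.mk₀ (S.fibIso k).hom) (add_zero n) :=
  HpullThen_postcomp (D.map a) (trans S.toSheaf a) (S.τ a) (S.fibIso j).hom (S.fibIso k).hom
    (S.trans_fibIso a).symm n x

variable {c : Cone D} (G : EtCoh.Ab c.pt) (ψ : ∀ i, S.F i ⟶ (EtCoh.push (c.π.app i)).obj G)
  (hψ : ∀ {k j : I} (a : k ⟶ j), S.τ a ≫ (EtCoh.push (D.map a)).map (ψ k) =
    ψ j ≫ (etPc (c.π.app k) (D.map a) (c.π.app j) (c.w a)).app G)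

/-- The extension to the cone point given by a compatible family of maps. -/
def coc : Coc c S.toSheaf where
  G := G
  η :=
    { app := fun A => (ψ A.unop.i).hom.app (op A.unop.V)
      naturality := fun B A f => by
        show ((S.τ f.unop.a).hom.app (op B.unop.V) ≫ (S.F A.unop.i).obj.map (toBc f.unop).op) ≫ _ =
          (ψ B.unop.i).hom.app (op B.unop.V) ≫ G.obj.map ((uF c).map f.unop).op
        rw [Category.assoc, (ψ A.unop.i).hom.naturality (toBc f.unop).op, ← Category.assoc]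
        refine (congrArg (fun t => t ≫ G.obj.map ((EtCoh.bc (c.π.app A.unop.i)).map (toBc f.unop)).op)
          (congrArg (fun t : S.F B.unop.i ⟶ (EtCoh.push (D.map f.unop.a)).obj
            ((EtCoh.push (c.π.app A.unop.i)).obj G) => t.hom.app (op B.unop.V)) (hψ f.unop.a))).trans ?_
        refine (Category.assoc _ _ _).trans (congrArg ((ψ B.unop.i).hom.app (op B.unop.V) ≫ ·) ?_)
        show G.obj.map (bcCompHom (c.π.app A.unop.i) (D.map f.unop.a) (c.π.app B.unop.i) (c.w f.unop.a) B.unop.V).op ≫ _ = _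
        rw [← G.obj.map_comp, ← op_comp]
        refine congrArg (fun t => G.obj.map (Quiver.Hom.op t)) (DescSecLib.bc_hom_ext _ _ _ ?_)
        show (_ ≫ (bcCompHom _ _ _ _ B.unop.V).left) ≫ _ = _
        rw [Category.assoc, bcCompHom_fst, ← Category.assoc, uF_map_fst]
        erw [bc_map_fst]
        rw [Category.assoc]
        exact congrArg (pullback.fst A.unop.V.hom (c.π.app A.unop.i) ≫ ·) (toBc_fst f.unop) }

theorem hmap_fibIso (i : I) (n : ℕ) (x : EtCoh.H (D.obj i) ((fib i).obj S.toSheaf) n)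
    [PreservesFiniteLimits (EtCoh.pull (c.π.app i))] :
    EtLim.HpullThen (c.π.app i) (S.F i) (adjL (c.π.app i) (ψ i)) n
        (x.comp (Ext.mk₀ (S.fibIso i).hom) (add_zero n)) = hmap (S.coc G ψ hψ) i n x := by
  refine (HpullThen_postcomp (c.π.app i) ((S.coc G ψ hψ).comp i) (ψ i) (S.fibIso i).hom (𝟙 G) ?_ n x).trans
    (Ext.comp_mk₀_id _)
  refine Sheaf.hom_ext (NatTrans.ext ?_)
  funext V
  exact (Category.id_comp ((ψ i).hom.app V)).trans (Category.comp_id _).symm

end Sys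

theorem isLim_of_stalks {P : Sheaf (topology D) AddCommGrpCat.{u + 1}} {c : Cone D} (C : Coc c P)
    (gen : ∀ (Ω : Type u) [Field Ω] [IsSepClosed Ω] (ξ : Spec (CommRingCat.of Ω) ⟶ c.pt)
      (q : ToType ((stk (A := AddCommGrpCat.{u + 1}) ξ).obj C.G)),
      ∃ (i : I) (V : (D.obj i).Etale) (v : Fib (ξ ≫ c.π.app i) V) (s : ((fib i).obj P).obj.obj (op V)),
        germ ξ C.G ((uF c).obj ((incl D i).obj V)) (Fib.lift (c.π.app i) ξ v)
          (C.η.app (op ((incl D i).obj V)) s) = q)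
    (van : ∀ (Ω : Type u) [Field Ω] [IsSepClosed Ω] (ξ : Spec (CommRingCat.of Ω) ⟶ c.pt) (A : Obj D)
      (z : Fib ξ ((uF c).obj A)) (s : P.obj.obj (op A)),
      germ ξ C.G ((uF c).obj A) z (C.η.app (op A) s) = 0 →
        ∃ (k : I) (a : k ⟶ A.i), germ (ξ ≫ c.π.app k) ((fib k).obj P) (bcObj A a).V
          (Fib.proj (c.π.app k) ξ (restrFib z a)) (P.obj.map (cart A a).op s) = 0) : C.IsLim := by
  refine ⟨fun Ω _ _ ξ q => ?_, fun Ω _ _ ξ A z s h => ?_⟩
  · obtain ⟨i, V, v, s, hs⟩ := gen Ω ξ q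
    exact ⟨(incl D i).obj V, Fib.lift (c.π.app i) ξ v, s, hs⟩
  · obtain ⟨k, a, hk⟩ := van Ω ξ A z s h
    obtain ⟨V, g, v, hv, he⟩ := (germ_eq_iff (A := AddCommGrpCat.{u + 1}) (F := (fib k).obj P) (ξ ≫ c.π.app k)
      (bcObj A a).V (Fib.proj (c.π.app k) ξ (restrFib z a)) (P.obj.map (cart A a).op s) 0).1
        (hk.trans (map_zero _).symm)
    refine ⟨(incl D k).obj V, (incl D k).map g ≫ cart A a, Fib.lift (c.π.app k) ξ v, ?_, ?_⟩
    · let z' : (NF c ξ).obj ((incl D k).obj V) := Fib.lift (c.π.app k) ξ v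
      refine (Functor.map_comp_apply (NF c ξ) ((incl D k).map g) (cart A a) z').trans ?_
      refine Eq.trans ?_ (restrFib_map z a)
      refine congrArg (Fib.map ((uF c).map (cart A a))) ?_
      show Fib.map ((uF c).map ((incl D k).map g)) (Fib.lift (c.π.app k) ξ v) = restrFib z a
      rw [uF_map_incl, ← Fib.lift_proj (c.π.app k) ξ (Fib.map _ _), Fib.proj_map, Fib.proj_lift]
      exact (congrArg (Fib.lift (c.π.app k) ξ) hv).trans (Fib.lift_proj _ _ _)
    · rw [op_comp, Functor.map_comp, ConcreteCategory.comp_apply]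
      exact he.trans (map_zero _)

end EtContLib
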