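import Groth.Agent.EtContLib.Cone
import Groth.Agent.RichLib.LimitBaseChange

/-!
# Coverings at late stages of an affine limit
-/

set_option autoImplicit false
set_option linter.unusedSectionVars false
set_option linter.style.haveILetI false
set_option backward.isDefEq.respectTransparency false
set_option backward.isDefEq.respectTransparency.types false
set_option synthInstance.maxHeartbeats 400000
set_option maxHeartbeats 1000000

universe u

open CategoryTheory CategoryTheory.Limits AlgebraicGeometry Opposite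
open Groth.Agent.EtShLib

noncomputable section

namespace EtContLib

variable {I : Type u} [SmallCategory I] {D : I ⥤ Scheme.{u}}

/-- The universal property of base change. -/
def liftBc {C A : Obj D} {k : I} (f : C ⟶ A) (a : k ⟶ A.i) (e : C.i ⟶ k) (he : e ≫ a = f.a) : C ⟶ bcObj A a :=
  ⟨e, pullback.lift f.g (C.V.hom ≫ D.map e) (by rw [f.w, Category.assoc, ← D.map_comp, he]), pullback.lift_snd _ _ _⟩

@[simp] theorem liftBc_a {C A : Obj D} {k : I} (f : C ⟶ A) (a : k ⟶ A.i) (e : C.i ⟶ k) (he : e ≫ a = f.a) :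
    (liftBc f a e he).a = e := rfl

theorem liftBc_cart {C A : Obj D} {k : I} (f : C ⟶ A) (a : k ⟶ A.i) (e : C.i ⟶ k) (he : e ≫ a = f.a) :
    liftBc f a e he ≫ cart A a = f :=
  hom_ext' he (pullback.lift_fst _ _ _)

theorem bc_hom_unique {C A : Obj D} {k : I} {a : k ⟶ A.i} (p q : C ⟶ bcObj A a) (ha : p.a = q.a)
    (h : p ≫ cart A a = q ≫ cart A a) : p = q := by
  refine hom_ext' ha ?_
  refine pullback.hom_ext (congrArg Hom.g h) ?_
  have h1 : p.g ≫ pullback.snd A.V.hom (D.map a) = C.V.hom ≫ D.map p.a := p.w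
  have h2 : q.g ≫ pullback.snd A.V.hom (D.map a) = C.V.hom ≫ D.map q.a := q.w
  rw [h1, h2, ha]

/-- The morphism of base changes over one stage. -/
def bMap {B A : Obj D} (f : B ⟶ A) {k : I} (b : k ⟶ B.i) (a : k ⟶ A.i) (h : b ≫ f.a = a) :
    (bcObj B b).V ⟶ (bcObj A a).V :=
  MorphismProperty.Over.homMk
    (pullback.lift (pullback.fst B.V.hom (D.map b) ≫ f.g) (pullback.snd B.V.hom (D.map b)) (by
      rw [Category.assoc, f.w, ← Category.assoc, pullback.condition, Category.assoc, ← D.map_comp, h]))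
    (pullback.lift_snd _ _ _)

theorem bMap_cart {B A : Obj D} (f : B ⟶ A) {k : I} (b : k ⟶ B.i) (a : k ⟶ A.i) (h : b ≫ f.a = a) :
    (incl D k).map (bMap f b a h) ≫ cart A a = cart B b ≫ f :=
  hom_ext' ((Category.id_comp _).trans h.symm) (pullback.lift_fst _ _ _)

theorem bMap_range {B A : Obj D} (f : B ⟶ A) {k : I} (b : k ⟶ B.i) (a : k ⟶ A.i) (h : b ≫ f.a = a)
    (t : k ⟶ B.i) (ht : t = b) (x : (bcObj A a).V.left)
    (w : B.V.left) (tr : (bcObj A a).V.left ⟶ (bcObj A f.a).V.left)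
    (htr₁ : tr ≫ pullback.fst A.V.hom (D.map f.a) = pullback.fst A.V.hom (D.map a))
    (htr₂ : tr ≫ pullback.snd A.V.hom (D.map f.a) = pullback.snd A.V.hom (D.map a) ≫ D.map t)
    (hx : tr.base x = (toBc f).left.base w) : ∃ p : (bcObj B b).V.left, (bMap f b a h).left.base p = x := by
  subst ht
  obtain ⟨p, hp, -⟩ := Scheme.Pullback.exists_preimage_pullback (f := tr) (g := (toBc f).left) x w hx
  have e1 : (toBc f).left ≫ pullback.fst A.V.hom (D.map f.a) = f.g := pullback.lift_fst _ _ _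
  have e2 : (toBc f).left ≫ pullback.snd A.V.hom (D.map f.a) = B.V.hom := pullback.lift_snd _ _ _
  let l : pullback tr (toBc f).left ⟶ (bcObj B t).V.left :=
    pullback.lift (pullback.snd _ _) (pullback.fst _ _ ≫ pullback.snd A.V.hom (D.map a)) (by
      rw [← e2, ← Category.assoc]
      exact (congrArg (· ≫ pullback.snd A.V.hom (D.map f.a)) pullback.condition.symm).trans
        ((Category.assoc _ _ _).trans ((congrArg (pullback.fst _ _ ≫ ·) htr₂).trans (Category.assoc _ _ _).symm)))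
  have hl : l ≫ (bMap f t a h).left = pullback.fst _ _ := by
    apply pullback.hom_ext
    · show (l ≫ _) ≫ pullback.fst A.V.hom (D.map a) = _
      rw [Category.assoc]
      erw [pullback.lift_fst]
      erw [pullback.lift_fst_assoc]
      rw [← e1, ← Category.assoc, ← pullback.condition, Category.assoc, htr₁]
    · show (l ≫ _) ≫ pullback.snd A.V.hom (D.map a) = _
      rw [Category.assoc]
      erw [pullback.lift_snd]
      exact pullback.lift_snd _ _ _
  refine ⟨l.base p, ?_⟩
  rw [← hp]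
  exact congrArg (fun q => q.base p) hl

variable [IsCofiltered I] {c : Cone D} (hc : IsLimit c)
  [∀ (i j : I) (f : i ⟶ j), IsAffineHom (D.map f)]
  [∀ i, CompactSpace (D.obj i)] [∀ i, QuasiSeparatedSpace (D.obj i)]

/-- The system of base changes of an object to the earlier stages. -/
abbrev sysOf (A : Obj D) : RichLib.LimBC.Sys (Over A.i) A.V.left :=
  RichLib.LimBC.pb (RichLib.LimBC.ofStage D c hc A.i) A.V.hom

include hc in
theorem compactSpace_uF (A : Obj D) [CompactSpace A.V.left] : CompactSpace ((uF c).obj A).left := by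
  haveI : CompactSpace ↥((𝟭 Scheme).obj A.V.left) := ‹CompactSpace ↥A.V.left›
  haveI := isAffineHom_π_app D c hc A.i
  exact QuasiCompact.compactSpace_of_compactSpace (pullback.fst A.V.hom (c.π.app A.i))

include hc in
theorem quasiSeparatedSpace_uF (A : Obj D) [QuasiSeparatedSpace A.V.left] :
    QuasiSeparatedSpace ((uF c).obj A).left := by
  haveI : QuasiSeparatedSpace ↥((𝟭 Scheme).obj A.V.left) := ‹QuasiSeparatedSpace ↥A.V.left›
  haveI := isAffineHom_π_app D c hc A.i
  exact quasiSeparatedSpace_of_quasiSeparated (pullback.fst A.V.hom (c.π.app A.i))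

theorem compactSpace_bcObj (A : Obj D) [CompactSpace A.V.left] {k : I} (a : k ⟶ A.i) :
    CompactSpace (bcObj A a).V.left := by
  haveI : CompactSpace ↥((𝟭 Scheme).obj A.V.left) := ‹CompactSpace ↥A.V.left›
  exact  QuasiCompact.compactSpace_of_compactSpace (pullback.fst A.V.hom (D.map a))

theorem quasiSeparatedSpace_bcObj (A : Obj D) [QuasiSeparatedSpace A.V.left] {k : I} (a : k ⟶ A.i) :
    QuasiSeparatedSpace (bcObj A a).V.left := by
  haveI : QuasiSeparatedSpace ↥((𝟭 Scheme).obj A.V.left) := ‹QuasiSeparatedSpace ↥A.V.left›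
  exact  quasiSeparatedSpace_of_quasiSeparated (pullback.fst A.V.hom (D.map a))

include hc in
theorem exists_stage_cover {ι : Type u} (A : Obj D) [CompactSpace A.V.left] (B : ι → Obj D)
    (f : ∀ j, B j ⟶ A) (hcov : ∀ y : ((uF c).obj A).left, ∃ j z, ((uF c).map (f j)).left.base z = y) :
    ∃ (t : Finset ι) (k : I) (a : k ⟶ A.i) (b : ∀ j : t, k ⟶ (B j.1).i) (hb : ∀ j : t, b j ≫ (f j.1).a = a),
      ∀ x : (bcObj A a).V.left, ∃ (j : t) (p : (bcObj (B j.1) (b j)).V.left),
        (bMap (f j.1) (b j) a (hb j)).left.base p = x := by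
  classical
  let S := sysOf hc A
  haveI : ∀ {φ ψ : Over A.i} (g : φ ⟶ ψ), IsAffineHom (S.D.map g) := fun g => S.affine_map g
  haveI : ∀ φ, CompactSpace (S.D.obj φ) := S.compactSpace_obj
  haveI := compactSpace_uF hc A
  let O : ∀ j, (S.D.obj (Over.mk (f j).a)).Opens := fun j =>
    ⟨Set.range (toBc (f j)).left.base, haveI := etale_left (toBc (f j)); (toBc (f j)).left.isOpenMap.isOpen_range⟩
  let U : ι → Set (S.c.pt : Scheme.{u}) := fun j => (S.c.π.app (Over.mk (f j).a)).base ⁻¹' (O j : Set _)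
  obtain ⟨t, ht⟩ := (isCompact_univ (X := ((uF c).obj A).left)).elim_finite_subcover U
    (fun j => (O j).2.preimage (S.c.π.app (Over.mk (f j).a)).continuous) (fun y _ => by
      obtain ⟨j, z, hz⟩ := hcov y
      refine Set.mem_iUnion.2 ⟨j, ⟨(pullback.fst (B j).V.hom (c.π.app (B j).i)).base z, ?_⟩⟩
      have e : ((uF c).map (f j)).left ≫ S.c.π.app (Over.mk (f j).a) =
          pullback.fst (B j).V.hom (c.π.app (B j).i) ≫ (toBc (f j)).left := by
        apply pullback.hom_ext
        · show (_ ≫ RichLib.LimBC.pbπ _ _ _) ≫ _ = (_ ≫ _) ≫ _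
          rw [Category.assoc, Category.assoc]
          erw [RichLib.LimBC.pbπ_fst, pullback.lift_fst, pullback.lift_fst]
        · show (_ ≫ RichLib.LimBC.pbπ _ _ _) ≫ _ = (_ ≫ _) ≫ _
          rw [Category.assoc, Category.assoc]
          erw [RichLib.LimBC.pbπ_snd, pullback.lift_snd_assoc, pullback.lift_snd]
          exact pullback.condition.symm
      rw [← hz]
      exact (congrArg (fun q => q.base z) e).symm)
  obtain ⟨φ, hφ⟩ := IsCofiltered.inf_objs_exists (t.image fun j => Over.mk (f j).a)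
  let h₀ : ∀ j : t, φ ⟶ Over.mk (f j.1).a := fun j => (hφ (Finset.mem_image_of_mem _ j.2)).some
  let V : (S.D.obj φ).Opens := ⨆ j : t, S.D.map (h₀ j) ⁻¹ᵁ O j.1
  have hV : S.c.π.app φ ⁻¹ᵁ V = ⊤ := by
    refine top_le_iff.1 fun y _ => ?_
    obtain ⟨j, hj, hy⟩ := Set.mem_iUnion₂.1 (ht (Set.mem_univ y))
    refine TopologicalSpace.Opens.mem_iSup.2 ⟨⟨j, hj⟩, ?_⟩
    show (S.D.map (h₀ ⟨j, hj⟩)).base ((S.c.π.app φ).base y) ∈ O j
    rw [← Scheme.Hom.comp_apply, S.c.w]
    exact hy
  obtain ⟨ψ, g, hg⟩ := exists_map_eq_top S.D S.c S.hc V hV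
  refine ⟨t, ψ.left, ψ.hom, fun j => (g ≫ h₀ j).left, fun j => Over.w (g ≫ h₀ j), fun x => ?_⟩
  obtain ⟨j, w, hw⟩ : ∃ j : t, (S.D.map (h₀ j)).base ((S.D.map g).base x) ∈ O j.1 :=
    TopologicalSpace.Opens.mem_iSup.1 (hg.ge (Set.mem_univ (x : (S.D.obj ψ : Scheme.{u}))))
  refine ⟨j, bMap_range (f j.1) _ ψ.hom _ _ rfl x w (S.D.map (g ≫ h₀ j)) ?_ ?_ ?_⟩
  · exact RichLib.LimBC.pbMap_fst _ _ _
  · exact RichLib.LimBC.pbMap_snd _ _ _
  · rw [S.D.map_comp]
    exact hw.symm

end EtContLib
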