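import Groth.Agent.EtContLib.Site
import Groth.Agent.DescSecLib.Et
import Groth.Prelude.Def_EtCore
import Mathlib.CategoryTheory.Limits.ConcreteCategory.Basic

/-!
# Sheaves on the total site and their extensions to a cone point
-/

set_option autoImplicit false
set_option linter.unusedSectionVars false
set_option linter.style.haveILetI false
set_option backward.isDefEq.respectTransparency false
set_option backward.isDefEq.respectTransparency.types false
set_option synthInstance.maxHeartbeats 400000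
set_option maxHeartbeats 1000000

universe u

open CategoryTheory CategoryTheory.Limits AlgebraicGeometry Opposite
open Groth.Agent.EtShLib

noncomputable section

namespace EtContLib

variable {I : Type u} [SmallCategory I] {D : I ⥤ Scheme.{u}} (c : Cone D)

/-- Base change to the cone point. -/
def uMap {A B : Obj D} (f : A ⟶ B) :
    (EtCoh.bc (c.π.app A.i)).obj A.V ⟶ (EtCoh.bc (c.π.app B.i)).obj B.V :=
  MorphismProperty.Over.homMk
    (pullback.lift (pullback.fst A.V.hom (c.π.app A.i) ≫ f.g) (pullback.snd A.V.hom (c.π.app A.i)) (by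
      rw [Category.assoc, f.w, ← Category.assoc, pullback.condition, Category.assoc, c.w]))
    (pullback.lift_snd _ _ _)

theorem uMap_fst {A B : Obj D} (f : A ⟶ B) :
    (uMap c f).left ≫ pullback.fst B.V.hom (c.π.app B.i) = pullback.fst A.V.hom (c.π.app A.i) ≫ f.g :=
  pullback.lift_fst _ _ _

/-- Base change to the cone point, as a functor. -/
abbrev uF : Obj D ⥤ c.pt.Etale where
  obj A := (EtCoh.bc (c.π.app A.i)).obj A.V
  map f := uMap c f
  map_id A := DescSecLib.bc_hom_ext _ _ _ (by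
    refine (uMap_fst c _).trans ?_
    exact (Category.comp_id _).trans (Category.id_comp _).symm)
  map_comp {A B C} f h := DescSecLib.bc_hom_ext _ _ _ (by
    refine (uMap_fst c _).trans ?_
    show _ = ((uMap c f).left ≫ (uMap c h).left) ≫ _
    rw [Category.assoc, uMap_fst, ← Category.assoc (uMap c f).left, uMap_fst, Category.assoc]
    rfl)

theorem uMap_incl (i : I) {V W : (D.obj i).Etale} (g : V ⟶ W) :
    uMap c ((incl D i).map g) = (EtCoh.bc (c.π.app i)).map g :=
  DescSecLib.bc_hom_ext _ _ _ ((uMap_fst c _).trans (DescSecLib.bc_map_fst _ g).symm)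

theorem uF_map_incl (i : I) {V W : (D.obj i).Etale} (g : V ⟶ W) :
    (uF c).map ((incl D i).map g) = (EtCoh.bc (c.π.app i)).map g := uMap_incl c i g

theorem uF_map_fst {A B : Obj D} (f : A ⟶ B) :
    ((uF c).map f).left ≫ pullback.fst B.V.hom (c.π.app B.i) = pullback.fst A.V.hom (c.π.app A.i) ≫ f.g :=
  uMap_fst c f

variable {c}

/-- A geometric point of the base change at an earlier stage. -/
def restrFib {Ω : Type u} [Field Ω] [IsSepClosed Ω] {ξ : Spec (CommRingCat.of Ω) ⟶ c.pt} {A : Obj D}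
    (z : Fib ξ ((uF c).obj A)) {k : I} (a : k ⟶ A.i) : Fib ξ ((uF c).obj (bcObj A a)) :=
  Fib.lift (c.π.app k) ξ (Fib.mk (U := (bcObj A a).V)
    (pullback.lift (z.hom ≫ pullback.fst A.V.hom (c.π.app A.i)) (ξ ≫ c.π.app k) (by
      rw [Category.assoc, pullback.condition, ← Category.assoc, Category.assoc ξ, c.w]
      exact congrArg (· ≫ c.π.app A.i) z.w))
    (pullback.lift_snd _ _ _))

theorem proj_restrFib_fst {Ω : Type u} [Field Ω] [IsSepClosed Ω] {ξ : Spec (CommRingCat.of Ω) ⟶ c.pt} {A : Obj D}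
    (z : Fib ξ ((uF c).obj A)) {k : I} (a : k ⟶ A.i) :
    (Fib.proj (c.π.app k) ξ (restrFib z a)).hom ≫ pullback.fst A.V.hom (D.map a) =
      z.hom ≫ pullback.fst A.V.hom (c.π.app A.i) := by
  rw [restrFib, Fib.proj_lift]
  exact pullback.lift_fst _ _ _

theorem restrFib_map {Ω : Type u} [Field Ω] [IsSepClosed Ω] {ξ : Spec (CommRingCat.of Ω) ⟶ c.pt} {A : Obj D}
    (z : Fib ξ ((uF c).obj A)) {k : I} (a : k ⟶ A.i) : (restrFib z a).map ((uF c).map (cart A a)) = z := by
  apply Fib.ext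
  apply pullback.hom_ext
  · show ((restrFib z a).hom ≫ ((uF c).map (cart A a)).left) ≫ _ = _
    rw [Category.assoc, uF_map_fst, restrFib]
    show (_ ≫ _ ≫ pullback.fst A.V.hom (D.map a)) = _
    rw [← Category.assoc]
    erw [pullback.lift_fst, pullback.lift_fst]
  · exact ((restrFib z a).map ((uF c).map (cart A a))).w.trans z.w.symm

variable (c) in
/-- An extension of a sheaf on the total site to the cone point. -/
structure Coc (P : Sheaf (topology D) AddCommGrpCat.{u + 1}) where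
  /-- The sheaf on the cone point. -/
  G : EtCoh.Ab c.pt
  /-- The comparison. -/
  η : P.obj ⟶ (uF c).op ⋙ G.obj

namespace Coc

variable {P : Sheaf (topology D) AddCommGrpCat.{u + 1}} (C : Coc c P)

/-- The component at a stage. -/
def comp (i : I) : (fib i).obj P ⟶ (EtCoh.push (c.π.app i)).obj C.G :=
  ObjectProperty.homMk
    { app := fun V => C.η.app (op ⟨i, V.unop⟩)
      naturality := fun V W g => by
        refine (C.η.naturality ((incl D i).map g.unop).op).trans ?_
        show C.η.app _ ≫ C.G.obj.map (((uF c).map ((incl D i).map g.unop))).op = _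
        rw [uF_map_incl]
        rfl }

theorem η_nat {A B : Obj D} (f : A ⟶ B) (s : P.obj.obj (op B)) :
    C.η.app (op A) (P.obj.map f.op s) = C.G.obj.map ((uF c).map f).op (C.η.app (op B) s) :=
  NatTrans.naturality_apply C.η f.op s

theorem germ_η {Ω : Type u} [Field Ω] [IsSepClosed Ω] {ξ : Spec (CommRingCat.of Ω) ⟶ c.pt} {A B : Obj D}
    (f : A ⟶ B) (z : Fib ξ ((uF c).obj A)) (s : P.obj.obj (op B)) :
    germ ξ C.G ((uF c).obj A) z (C.η.app (op A) (P.obj.map f.op s)) =
      germ ξ C.G ((uF c).obj B) (z.map ((uF c).map f)) (C.η.app (op B) s) := by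
  rw [η_nat, germ_res_apply]

/-- Every germ comes from a stage. -/
def Gen : Prop :=
  ∀ (Ω : Type u) [Field Ω] [IsSepClosed Ω] (ξ : Spec (CommRingCat.of Ω) ⟶ c.pt)
    (q : ToType ((stk (A := AddCommGrpCat.{u + 1}) ξ).obj C.G)),
    ∃ (A : Obj D) (z : Fib ξ ((uF c).obj A)) (s : P.obj.obj (op A)),
      germ ξ C.G ((uF c).obj A) z (C.η.app (op A) s) = q

/-- A germ which vanishes, vanishes at a stage. -/
def Van : Prop :=
  ∀ (Ω : Type u) [Field Ω] [IsSepClosed Ω] (ξ : Spec (CommRingCat.of Ω) ⟶ c.pt) (A : Obj D)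
    (z : Fib ξ ((uF c).obj A)) (s : P.obj.obj (op A)),
    germ ξ C.G ((uF c).obj A) z (C.η.app (op A) s) = 0 →
      ∃ (B : Obj D) (f : B ⟶ A) (z' : Fib ξ ((uF c).obj B)), z'.map ((uF c).map f) = z ∧ P.obj.map f.op s = 0

/-- The sheaf at the cone point is the limit of the system. -/
structure IsLim : Prop where
  gen : C.Gen
  van : C.Van

end Coc

variable (c)

/-- Left Kan extension to the cone point followed by sheafification. -/
def lamObj (P : Sheaf (topology D) AddCommGrpCat.{u + 1}) : EtCoh.Ab c.pt :=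
  (presheafToSheaf c.pt.smallEtaleTopology AddCommGrpCat.{u + 1}).obj ((uF c).op.lan.obj P.obj)

/-- The universal property. -/
def lamEquiv (P : Sheaf (topology D) AddCommGrpCat.{u + 1}) (G : EtCoh.Ab c.pt) :
    (lamObj c P ⟶ G) ≃ (P.obj ⟶ (uF c).op ⋙ G.obj) :=
  (((uF c).op.lanAdjunction AddCommGrpCat.{u + 1}).comp
    (sheafificationAdjunction c.pt.smallEtaleTopology AddCommGrpCat.{u + 1})).homEquiv P.obj G

/-- The universal extension. -/
def lam (P : Sheaf (topology D) AddCommGrpCat.{u + 1}) : Coc c P where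
  G := lamObj c P
  η := lamEquiv c P _ (𝟙 _)

theorem lamEquiv_apply {P : Sheaf (topology D) AddCommGrpCat.{u + 1}} {G : EtCoh.Ab c.pt} (φ : lamObj c P ⟶ G) :
    lamEquiv c P G φ = (lam c P).η ≫ Functor.whiskerLeft (uF c).op φ.hom := by
  have h := (((uF c).op.lanAdjunction AddCommGrpCat.{u + 1}).comp
    (sheafificationAdjunction c.pt.smallEtaleTopology AddCommGrpCat.{u + 1})).homEquiv_naturality_right (𝟙 (lamObj c P)) φ
  refine (congrArg (lamEquiv c P G) (Category.id_comp φ).symm).trans ?_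
  exact h

theorem lam_hom_ext {P : Sheaf (topology D) AddCommGrpCat.{u + 1}} {G : EtCoh.Ab c.pt} (φ ψ : lamObj c P ⟶ G)
    (h : ∀ (A : Obj D) (s : P.obj.obj (op A)),
      φ.hom.app (op ((uF c).obj A)) ((lam c P).η.app (op A) s) =
        ψ.hom.app (op ((uF c).obj A)) ((lam c P).η.app (op A) s)) : φ = ψ := by
  apply (lamEquiv c P G).injective
  rw [lamEquiv_apply, lamEquiv_apply]
  ext A s
  exact h A.unop s

/-- The map out of the universal extension. -/
def lamDesc {P : Sheaf (topology D) AddCommGrpCat.{u + 1}} (C : Coc c P) : lamObj c P ⟶ C.G :=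
  (lamEquiv c P C.G).symm C.η

theorem lamDesc_η {P : Sheaf (topology D) AddCommGrpCat.{u + 1}} (C : Coc c P) (A : Obj D)
    (s : P.obj.obj (op A)) :
    (lamDesc c C).hom.app (op ((uF c).obj A)) ((lam c P).η.app (op A) s) = C.η.app (op A) s := by
  have h := (lamEquiv_apply c (lamDesc c C)).symm.trans ((lamEquiv c P C.G).apply_symm_apply C.η)
  exact ConcreteCategory.congr_hom (congrArg (fun t => t.app (op A)) h) s

section Stalk

variable {Ω : Type u} [Field Ω] [IsSepClosed Ω] (ξ : Spec (CommRingCat.of Ω) ⟶ c.pt)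

/-- Maps out of a stalk of the universal extension are determined on germs of stages. -/
theorem stalk_lam_hom_ext {P : Sheaf (topology D) AddCommGrpCat.{u + 1}} {M : AddCommGrpCat.{u + 1}}
    (φ ψ : (stk (A := AddCommGrpCat.{u + 1}) ξ).obj (lam c P).G ⟶ M)
    (h : ∀ (A : Obj D) (z : Fib ξ ((uF c).obj A)) (s : P.obj.obj (op A)),
      φ (germ ξ (lam c P).G ((uF c).obj A) z ((lam c P).η.app (op A) s)) =
        ψ (germ ξ (lam c P).G ((uF c).obj A) z ((lam c P).η.app (op A) s))) : φ = ψ := by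
  apply ((pt ξ).skyscraperSheafAdjunction (A := AddCommGrpCat.{u + 1}).homEquiv _ _).injective
  refine lam_hom_ext c _ _ fun A s => ?_
  have key : ∀ (χ : (stk (A := AddCommGrpCat.{u + 1}) ξ).obj (lam c P).G ⟶ M) (z : Fib ξ ((uF c).obj A)),
      Pi.π (fun _ : Fib ξ ((uF c).obj A) => M) z
        ((((pt ξ).skyscraperSheafAdjunction (A := AddCommGrpCat.{u + 1})).homEquiv _ _ χ).hom.app
          (op ((uF c).obj A)) ((lam c P).η.app (op A) s)) =
        χ (germ ξ (lam c P).G ((uF c).obj A) z ((lam c P).η.app (op A) s)) := fun χ z => by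
    have e : (((pt ξ).skyscraperSheafAdjunction (A := AddCommGrpCat.{u + 1})).homEquiv (lam c P).G M χ).hom =
        (pt ξ).skyscraperPresheafHomEquiv χ := (pt ξ).skyscraperSheafAdjunction_homEquiv_apply_hom χ
    rw [e]
    refine (ConcreteCategory.comp_apply _ _ _).symm.trans
      ((ConcreteCategory.congr_hom ((pt ξ).skyscraperPresheafHomEquiv_app_π χ ((uF c).obj A) z) _).trans ?_)
    exact ConcreteCategory.comp_apply _ _ _
  refine Concrete.limit_ext _ _ _ ?_
  rintro ⟨z⟩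
  exact (key φ z).trans ((h A z s).trans (key ψ z).symm)

/-- Points of the total site over a geometric point. -/
abbrev NF : Obj D ⥤ Type u := uF c ⋙ (pt ξ).fiber

variable [IsCofiltered I]

local instance : PreservesFilteredColimitsOfSize.{u, u + 1} (forget AddCommGrpCat.{u + 1}) :=
  preservesFilteredColimitsOfSize_of_univLE.{u + 1, u + 1} _

instance : IsCofiltered (NF c ξ).Elements where
  cone_objs := fun ⟨A, z⟩ ⟨B, w⟩ => by
    obtain ⟨k, a, b, -⟩ := IsCofilteredOrEmpty.cone_objs A.i B.i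
    let z' := Fib.proj (c.π.app k) ξ (restrFib (z : Fib ξ ((uF c).obj A)) a)
    let w' := Fib.proj (c.π.app k) ξ (restrFib (w : Fib ξ ((uF c).obj B)) b)
    obtain ⟨⟨P, p⟩, ⟨g, hg⟩, ⟨h, hh⟩, -⟩ := IsCofilteredOrEmpty.cone_objs (C := (pt (ξ ≫ c.π.app k)).fiber.Elements)
      ⟨(bcObj A a).V, z'⟩ ⟨(bcObj B b).V, w'⟩
    let p' : Fib ξ ((uF c).obj ⟨k, P⟩) := Fib.lift (c.π.app k) ξ p
    have hp : ∀ {Q : (D.obj k).Etale} (q : P ⟶ Q) (x : Fib ξ ((uF c).obj ⟨k, Q⟩)),
        Fib.map q p = Fib.proj (c.π.app k) ξ x → p'.map ((uF c).map ((incl D k).map q)) = x := fun {Q} q x hq => by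
      rw [uF_map_incl, ← Fib.lift_proj (c.π.app k) ξ (p'.map _), Fib.proj_map, Fib.proj_lift, hq, Fib.lift_proj]
    refine ⟨⟨⟨k, P⟩, p'⟩, CategoryOfElements.homMk ⟨⟨k, P⟩, p'⟩ ⟨A, z⟩ ((incl D k).map g ≫ cart A a) ?_,
      CategoryOfElements.homMk ⟨⟨k, P⟩, p'⟩ ⟨B, w⟩ ((incl D k).map h ≫ cart B b) ?_, trivial⟩
    · refine (Functor.map_comp_apply (NF c ξ) _ _ p').trans ?_
      exact (congrArg (Fib.map ((uF c).map (cart A a))) (hp g _ hg)).trans (restrFib_map _ a)
    · refine (Functor.map_comp_apply (NF c ξ) _ _ p').trans ?_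
      exact (congrArg (Fib.map ((uF c).map (cart B b))) (hp h _ hh)).trans (restrFib_map _ b)
  cone_maps := fun {Az Bw} f₁ f₂ => by
    obtain ⟨A, z⟩ := Az
    obtain ⟨B, w⟩ := Bw
    obtain ⟨f₁, hf₁⟩ := f₁
    obtain ⟨f₂, hf₂⟩ := f₂
    let k := IsCofiltered.eq f₁.a f₂.a
    let e := IsCofiltered.eqHom f₁.a f₂.a
    let b := e ≫ f₁.a
    have hb : e ≫ f₂.a = b := (IsCofiltered.eq_condition f₁.a f₂.a).symm
    let z' := restrFib (z : Fib ξ ((uF c).obj A)) e
    let w' := restrFib (w : Fib ξ ((uF c).obj B)) b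
    have hfac : ∀ (f : A ⟶ B), e ≫ f.a = b → Fib.map ((uF c).map f) (z : Fib ξ ((uF c).obj A)) = w →
        ∃ g : (bcObj A e).V ⟶ (bcObj B b).V,
          Fib.map g (Fib.proj (c.π.app k) ξ z') = Fib.proj (c.π.app k) ξ w' ∧
            (incl D k).map g ≫ cart B b = cart A e ≫ f := fun f hfb hf => by
      let g : (bcObj A e).V ⟶ (bcObj B b).V :=
        MorphismProperty.Over.homMk (pullback.lift (pullback.fst A.V.hom (D.map e) ≫ f.g)
          (pullback.snd A.V.hom (D.map e)) (by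
            rw [Category.assoc, f.w, ← Category.assoc, pullback.condition, Category.assoc, ← D.map_comp, hfb]))
          (pullback.lift_snd _ _ _)
      have hg : (incl D k).map g ≫ cart B b = cart A e ≫ f :=
        hom_ext' ((Category.id_comp _).trans hfb.symm) (pullback.lift_fst _ _ _)
      refine ⟨g, ?_, hg⟩
      apply Fib.ext
      apply pullback.hom_ext
      · show ((_ ≫ g.left) ≫ pullback.fst B.V.hom (D.map b)) = _
        rw [Category.assoc]
        erw [pullback.lift_fst]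
        rw [← Category.assoc]
        refine (congrArg (· ≫ f.g) (proj_restrFib_fst _ e)).trans (Eq.trans ?_ (proj_restrFib_fst _ b).symm)
        rw [← hf]
        show _ = (Fib.hom (ξ := ξ) (U := (uF c).obj A) z ≫ ((uF c).map f).left) ≫ _
        rw [Category.assoc, Category.assoc, uF_map_fst]
      · exact (Fib.map g _).w.trans (Fib.proj (c.π.app k) ξ w').w.symm
    obtain ⟨g₁, hg₁, e₁⟩ := hfac f₁ rfl hf₁
    obtain ⟨g₂, hg₂, e₂⟩ := hfac f₂ hb hf₂
    obtain ⟨⟨P, p⟩, ⟨q, hq⟩, hq'⟩ := IsCofilteredOrEmpty.cone_maps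
      (CategoryOfElements.homMk (F := (pt (ξ ≫ c.π.app k)).fiber) ⟨(bcObj A e).V, _⟩ ⟨(bcObj B b).V, _⟩ g₁ hg₁)
      (CategoryOfElements.homMk ⟨(bcObj A e).V, _⟩ ⟨(bcObj B b).V, _⟩ g₂ hg₂)
    have hqq : q ≫ g₁ = q ≫ g₂ := congrArg Subtype.val hq'
    let p' : Fib ξ ((uF c).obj ⟨k, P⟩) := Fib.lift (c.π.app k) ξ p
    have hp' : p'.map ((uF c).map ((incl D k).map q)) = z' := by
      rw [uF_map_incl, ← Fib.lift_proj (c.π.app k) ξ (p'.map _), Fib.proj_map, Fib.proj_lift]
      exact (congrArg (Fib.lift (c.π.app k) ξ) hq).trans (Fib.lift_proj _ _ _)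
    refine ⟨⟨⟨k, P⟩, p'⟩, CategoryOfElements.homMk ⟨⟨k, P⟩, p'⟩ ⟨A, z⟩ ((incl D k).map q ≫ cart A e) ?_, ?_⟩
    · refine (Functor.map_comp_apply (NF c ξ) _ _ p').trans ?_
      exact (congrArg (Fib.map ((uF c).map (cart A e))) hp').trans (restrFib_map _ e)
    · refine Subtype.ext ?_
      show ((incl D k).map q ≫ cart A e) ≫ f₁ = ((incl D k).map q ≫ cart A e) ≫ f₂
      rw [Category.assoc, Category.assoc, ← e₁, ← e₂, ← Functor.map_comp_assoc, ← Functor.map_comp_assoc, hqq]
  nonempty := by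
    obtain ⟨k⟩ := IsCofiltered.nonempty (C := I)
    exact ⟨⟨⟨k, EtCoh.top (D.obj k)⟩,
      (Fib.lift (c.π.app k) ξ (Fib.mk (U := EtCoh.top (D.obj k)) (ξ ≫ c.π.app k) (Category.comp_id _)))⟩⟩

variable (P : Sheaf (topology D) AddCommGrpCat.{u + 1})

/-- The system of sections near a geometric point. -/
abbrev secDiag : (NF c ξ).Elementsᵒᵖ ⥤ AddCommGrpCat.{u + 1} := (CategoryOfElements.π (NF c ξ)).op ⋙ P.obj

/-- Germs of sections of stages at a geometric point. -/
def secToSky : P.obj ⟶ (uF c).op ⋙ ((pt ξ).skyscraperSheaf (colimit (secDiag c ξ P))).obj where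
  app A := Pi.lift fun z => colimit.ι (secDiag c ξ P) (op ⟨A.unop, z⟩)
  naturality A B f := Pi.hom_ext _ _ fun z => by
    refine (Category.assoc _ _ _).trans ((congrArg (P.obj.map f ≫ ·) (Pi.lift_π _ z)).trans ?_)
    refine Eq.trans ?_ ((Category.assoc _ _ _).symm)
    erw [Pi.map'_comp_π, Category.comp_id, Pi.lift_π]
    exact colimit.w (secDiag c ξ P)
      (CategoryOfElements.homMk (F := NF c ξ) ⟨B.unop, z⟩ ⟨A.unop, _⟩ f.unop rfl).op

theorem isLim_lam : (lam c P).IsLim := by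
  have gen : ∀ (Ω : Type u) [Field Ω] [IsSepClosed Ω] (ξ : Spec (CommRingCat.of Ω) ⟶ c.pt),
      ∃ (r : (stk (A := AddCommGrpCat.{u + 1}) ξ).obj (lam c P).G ⟶ colimit (secDiag c ξ P))
        (s : colimit (secDiag c ξ P) ⟶ (stk (A := AddCommGrpCat.{u + 1}) ξ).obj (lam c P).G),
        r ≫ s = 𝟙 _ ∧
        (∀ (A : Obj D) (z : Fib ξ ((uF c).obj A)) (x : P.obj.obj (op A)),
          r (germ ξ (lam c P).G ((uF c).obj A) z ((lam c P).η.app (op A) x)) = colimit.ι (secDiag c ξ P) (op ⟨A, z⟩) x) ∧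
        (∀ (A : Obj D) (z : Fib ξ ((uF c).obj A)) (x : P.obj.obj (op A)),
          s (colimit.ι (secDiag c ξ P) (op ⟨A, z⟩) x) = germ ξ (lam c P).G ((uF c).obj A) z ((lam c P).η.app (op A) x)) := by
    intro Ω _ _ ξ
    let C' : Coc c P := ⟨(pt ξ).skyscraperSheaf (colimit (secDiag c ξ P)), secToSky c ξ P⟩
    let adj := (pt ξ).skyscraperSheafAdjunction (A := AddCommGrpCat.{u + 1})
    let r := (adj.homEquiv (lam c P).G _).symm (lamDesc c C')
    let s : colimit (secDiag c ξ P) ⟶ (stk (A := AddCommGrpCat.{u + 1}) ξ).obj (lam c P).G :=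
      colimit.desc _ (Cocone.mk _
        { app := fun e => (lam c P).η.app (op e.unop.1) ≫ germ ξ _ ((uF c).obj e.unop.1) e.unop.2
          naturality := fun e e' f => by
            obtain ⟨⟨f, hf⟩⟩ := f
            ext x
            have hf' : Fib.map ((uF c).map f) (e'.unop.2 : Fib ξ ((uF c).obj e'.unop.1)) = e.unop.2 := hf
            show germ ξ (lam c P).G ((uF c).obj e'.unop.1) e'.unop.2 ((lam c P).η.app _ (P.obj.map f.op x)) =
              germ ξ (lam c P).G ((uF c).obj e.unop.1) e.unop.2 ((lam c P).η.app _ x)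
            rw [(lam c P).germ_η f, hf']
            rfl })
    have hr : ∀ (A : Obj D) (z : Fib ξ ((uF c).obj A)) (x : P.obj.obj (op A)),
        r (germ ξ (lam c P).G ((uF c).obj A) z ((lam c P).η.app (op A) x)) = colimit.ι (secDiag c ξ P) (op ⟨A, z⟩) x := by
      intro A z x
      have h1 : germ ξ _ ((uF c).obj A) z ≫ r = (lamDesc c C').hom.app (op ((uF c).obj A)) ≫
          Pi.π (fun _ : Fib ξ ((uF c).obj A) => colimit (secDiag c ξ P)) z := by
        rw [show r = _ from GrothendieckTopology.Point.skyscraperSheafAdjunction_homEquiv_symm_apply _ (lamDesc c C')]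
        exact (pt ξ).toPresheafFiber_skyscraperPresheafHomEquiv_symm _ _ z
      refine (ConcreteCategory.congr_hom h1 _).trans ?_
      refine (ConcreteCategory.comp_apply _ _ _).trans ((congrArg _ (lamDesc_η c C' A x)).trans ?_)
      exact ConcreteCategory.congr_hom (Pi.lift_π _ z) x
    have hs : ∀ (A : Obj D) (z : Fib ξ ((uF c).obj A)) (x : P.obj.obj (op A)),
        s (colimit.ι (secDiag c ξ P) (op ⟨A, z⟩) x) = germ ξ (lam c P).G ((uF c).obj A) z ((lam c P).η.app (op A) x) :=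
      fun A z x => ConcreteCategory.congr_hom (colimit.ι_desc (F := secDiag c ξ P) _ (op ⟨A, z⟩)) x
    refine ⟨r, s, stalk_lam_hom_ext c ξ _ _ fun A z x => ?_, hr, hs⟩
    rw [ConcreteCategory.comp_apply, hr, hs]
    rfl
  refine ⟨fun Ω _ _ ξ q => ?_, fun Ω _ _ ξ A z x h => ?_⟩
  · obtain ⟨r, s, hrs, hr, hs⟩ := gen Ω ξ
    obtain ⟨⟨A, z⟩, x, hx⟩ : ∃ (e : (NF c ξ).Elements) (x : P.obj.obj (op e.1)),
        colimit.ι (secDiag c ξ P) (op e) x = r q := by
      obtain ⟨e, x, hx⟩ := Concrete.colimit_exists_rep (secDiag c ξ P) (r q)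
      exact ⟨e.unop, x, hx⟩
    refine ⟨A, z, x, (hs A z x).symm.trans ?_⟩
    rw [hx, ← ConcreteCategory.comp_apply, hrs]
    rfl
  · obtain ⟨r, -, -, hr, -⟩ := gen Ω ξ
    have h0 : colimit.ι (secDiag c ξ P) (op ⟨A, z⟩) x = colimit.ι (secDiag c ξ P) (op ⟨A, z⟩) 0 := by
      rw [← hr, h, map_zero, map_zero]
    obtain ⟨⟨B, z'⟩, ⟨⟨f, hf⟩⟩, ⟨⟨g, hg⟩⟩, he⟩ :
        ∃ (e : (NF c ξ).Elements)
          (f : Quiver.Hom (V := (NF c ξ).Elementsᵒᵖ) (op ⟨A, z⟩) (op e))
          (g : Quiver.Hom (V := (NF c ξ).Elementsᵒᵖ) (op ⟨A, z⟩) (op e)),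
          (secDiag c ξ P).map f x = (secDiag c ξ P).map g 0 := by
      obtain ⟨e, f, g, he⟩ := Concrete.colimit_exists_of_rep_eq (secDiag c ξ P) _ _ h0
      exact ⟨e.unop, f, g, he⟩
    refine ⟨B, f, z', hf, ?_⟩
    exact he.trans (map_zero _)

end Stalk

theorem isIso_lamDesc [IsCofiltered I] {P : Sheaf (topology D) AddCommGrpCat.{u + 1}} (C : Coc c P) (hC : C.IsLim) :
    IsIso (lamDesc c C) := by
  refine isIso_of_stalks _ fun Ω _ _ ξ => ?_
  rw [← isIso_iff_of_reflects_iso _ (forget AddCommGrpCat.{u + 1}), isIso_iff_bijective]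
  refine ⟨(injective_iff_map_eq_zero ((stk ξ).map (lamDesc c C)).hom).2 fun q hq => ?_, fun q => ?_⟩
  · obtain ⟨A, z, s, rfl⟩ := (isLim_lam c P).gen Ω ξ q
    have h : germ ξ C.G ((uF c).obj A) z (C.η.app (op A) s) = 0 := by
      rw [← lamDesc_η, ← germ_natural_apply]
      exact hq
    obtain ⟨B, f, z', rfl, hs⟩ := hC.van Ω ξ A z s h
    rw [← (lam c P).germ_η f z', hs, map_zero, map_zero]
  · obtain ⟨A, z, s, rfl⟩ := hC.gen Ω ξ q
    exact ⟨germ ξ (lam c P).G ((uF c).obj A) z ((lam c P).η.app (op A) s),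
      (germ_natural_apply ξ (lamDesc c C) _ z _).trans (congrArg (germ ξ C.G _ z) (lamDesc_η c C A s))⟩

/-- The action on morphisms of systems. -/
def lamMap {P Q : Sheaf (topology D) AddCommGrpCat.{u + 1}} (φ : P ⟶ Q) : (lam c P).G ⟶ (lam c Q).G :=
  lamDesc c ⟨(lam c Q).G, φ.hom ≫ (lam c Q).η⟩

theorem lamMap_η {P Q : Sheaf (topology D) AddCommGrpCat.{u + 1}} (φ : P ⟶ Q) (A : Obj D) (s : P.obj.obj (op A)) :
    (lamMap c φ).hom.app (op ((uF c).obj A)) ((lam c P).η.app (op A) s) =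
      (lam c Q).η.app (op A) (φ.hom.app (op A) s) :=
  lamDesc_η c _ A s

theorem germ_lamMap {P Q : Sheaf (topology D) AddCommGrpCat.{u + 1}} (φ : P ⟶ Q) {Ω : Type u} [Field Ω]
    [IsSepClosed Ω] (ξ : Spec (CommRingCat.of Ω) ⟶ c.pt) (A : Obj D) (z : Fib ξ ((uF c).obj A))
    (s : P.obj.obj (op A)) :
    (stk ξ).map (lamMap c φ) (germ ξ (lam c P).G ((uF c).obj A) z ((lam c P).η.app (op A) s)) =
      germ ξ (lam c Q).G ((uF c).obj A) z ((lam c Q).η.app (op A) (φ.hom.app (op A) s)) :=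
  (germ_natural_apply ξ _ _ z _).trans (congrArg (germ ξ (lam c Q).G ((uF c).obj A) z) (lamMap_η c φ A s))

end EtContLib
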