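import Groth.Agent.EtContLib.Push
import Groth.Prelude.Def_EtGm

/-!
# Sheaves of global functions commuting with affine limits
-/

set_option autoImplicit false
set_option linter.unusedSectionVars false
set_option linter.style.haveILetI false
set_option backward.isDefEq.respectTransparency false
set_option backward.isDefEq.respectTransparency.types false
set_option synthInstance.maxHeartbeats 400000
set_option maxHeartbeats 1000000

universe u

open CategoryTheory CategoryTheory.Limits CategoryTheory.Abelian AlgebraicGeometry Opposite DescSecLib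
open Groth.Agent.EtShLib

noncomputable section

namespace EtContLib

attribute [local instance] EtSliceLib.pullExact

/-- A presheaf on schemes commutes with affine limits of qcqs schemes. -/
structure IsCont (Γ' : Scheme.{u}ᵒᵖ ⥤ AddCommGrpCat.{u + 1}) : Prop where
  surj : ∀ {J : Type u} [SmallCategory J] [IsCofiltered J] (E : J ⥤ Scheme.{u}) (e : Cone E) (_ : IsLimit e)
    [∀ (i j : J) (f : i ⟶ j), IsAffineHom (E.map f)] [∀ j, CompactSpace (E.obj j)]
    [∀ j, QuasiSeparatedSpace (E.obj j)] (t : Γ'.obj (op e.pt)),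
    ∃ (j : J) (s : Γ'.obj (op (E.obj j))), Γ'.map (e.π.app j).op s = t
  inj : ∀ {J : Type u} [SmallCategory J] [IsCofiltered J] (E : J ⥤ Scheme.{u}) (e : Cone E) (_ : IsLimit e)
    [∀ (i j : J) (f : i ⟶ j), IsAffineHom (E.map f)] [∀ j, CompactSpace (E.obj j)]
    [∀ j, QuasiSeparatedSpace (E.obj j)] (j : J) (s : Γ'.obj (op (E.obj j))), Γ'.map (e.π.app j).op s = 0 →
    ∃ (k : J) (a : k ⟶ j), Γ'.map (E.map a).op s = 0

theorem gamma_map_map (Γ' : Scheme.{u}ᵒᵖ ⥤ AddCommGrpCat.{u + 1}) {X Y Z : Scheme.{u}} (f : Y ⟶ Z) (g : X ⟶ Y)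
    (s : Γ'.obj (op Z)) : Γ'.map g.op (Γ'.map f.op s) = Γ'.map (g ≫ f).op s := by
  rw [op_comp, Functor.map_comp, ConcreteCategory.comp_apply]

variable (Γ' : Scheme.{u}ᵒᵖ ⥤ AddCommGrpCat.{u + 1}) (hΓ : Presheaf.IsSheaf Scheme.etaleTopology Γ')

/-- The sheaf on the small étale site. -/
abbrev gammaSheaf (X : Scheme.{u}) : EtCoh.Ab X :=
  ((Scheme.Etale.forget X ⋙ Over.forget X).sheafPushforwardContinuous _ _ Scheme.etaleTopology).obj ⟨Γ', hΓ⟩

/-- Functoriality in the scheme. -/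
def gammaPush {X Y : Scheme.{u}} (f : X ⟶ Y) : gammaSheaf Γ' hΓ Y ⟶ (EtCoh.push f).obj (gammaSheaf Γ' hΓ X) :=
  ObjectProperty.homMk (Functor.whiskerRight (NatTrans.op (EtLim.bcProj f)) Γ')

/-- Pullback on cohomology. -/
theorem hofPush_gammaPush {X Y : Scheme.{u}} (f : X ⟶ Y) (n : ℕ) (x : EtCoh.H Y (gammaSheaf Γ' hΓ Y) n) :
    EtLim.HofPush f (gammaSheaf Γ' hΓ X) n ((EtCoh.HF Y n).map (gammaPush Γ' hΓ f) x) =
      EtLim.HpullThen f _ (adjL f (gammaPush Γ' hΓ f)) n x := by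
  refine (HofPush_eq f _ n _).trans ?_
  refine (HpullThen_postcomp f (gammaPush Γ' hΓ f) (𝟙 _) (gammaPush Γ' hΓ f) (𝟙 _) ?_ n x).trans (Ext.comp_mk₀_id _)
  exact congrArg (gammaPush Γ' hΓ f ≫ ·) ((EtCoh.push f).map_id _).symm

variable {I : Type u} [SmallCategory I] {D : I ⥤ Scheme.{u}}

variable (D) in
/-- The scheme of an object of the total site. -/
abbrev toScheme : Obj D ⥤ Scheme.{u} where
  obj A := A.V.left
  map f := f.g

variable (D) in
/-- The sheaf on the total site. -/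
def gammaTot : Sheaf (topology D) AddCommGrpCat.{u + 1} :=
  ⟨(toScheme D).op ⋙ Γ', isSheaf_of_fibres _ fun i => (gammaSheaf Γ' hΓ (D.obj i)).property⟩

theorem fib_gammaTot (i : I) : (fib i).obj (gammaTot Γ' hΓ D) = gammaSheaf Γ' hΓ (D.obj i) := rfl

theorem trans_gammaTot {k j : I} (a : k ⟶ j) : trans (gammaTot Γ' hΓ D) a = gammaPush Γ' hΓ (D.map a) := rfl

variable (c : Cone D)

/-- The extension to the cone point. -/
def gammaCoc : Coc c (gammaTot Γ' hΓ D) where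
  G := gammaSheaf Γ' hΓ c.pt
  η :=
    { app := fun A => Γ'.map (pullback.fst A.unop.V.hom (c.π.app A.unop.i)).op
      naturality := fun A B f => by
        show Γ'.map f.unop.g.op ≫ Γ'.map _ = Γ'.map _ ≫ Γ'.map ((uF c).map f.unop).left.op
        rw [← Γ'.map_comp, ← Γ'.map_comp, ← op_comp, ← op_comp]
        exact congrArg (fun t => Γ'.map (Quiver.Hom.op t)) (uF_map_fst c f.unop).symm }

theorem comp_gammaCoc (i : I) : (gammaCoc Γ' hΓ c).comp i = gammaPush Γ' hΓ (c.π.app i) := rfl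

variable {c} [IsCofiltered I] (hc : IsLimit c) [∀ (i j : I) (f : i ⟶ j), IsAffineHom (D.map f)]
  [∀ i, CompactSpace (D.obj i)] [∀ i, QuasiSeparatedSpace (D.obj i)]

include hc in
theorem isLim_gammaCoc (hcont : IsCont Γ') : (gammaCoc Γ' hΓ c).IsLim := by
  refine ⟨fun Ω _ _ ξ q => ?_, fun Ω _ _ ξ A z s h => ?_⟩
  · obtain ⟨U₀, u₀, t₀, rfl⟩ := exists_germ (A := AddCommGrpCat.{u + 1}) (F := gammaSheaf Γ' hΓ c.pt) ξ q
    obtain ⟨U, g, u, hU, rfl⟩ := exists_affine_below' ξ U₀ u₀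
    obtain ⟨A, hAc, hAq, ⟨e⟩⟩ := exists_obj hc U
    let S := sysOf hc A
    haveI : ∀ (φ ψ : Over A.i) (f : φ ⟶ ψ), IsAffineHom (S.D.map f) := fun φ ψ f => S.affine_map f
    haveI : ∀ φ : Over A.i, CompactSpace (S.D.obj φ) := fun φ => compactSpace_bcObj A φ.hom
    haveI : ∀ φ : Over A.i, QuasiSeparatedSpace (S.D.obj φ) := fun φ => quasiSeparatedSpace_bcObj A φ.hom
    let t : (gammaSheaf Γ' hΓ c.pt).obj.obj (op ((uF c).obj A)) :=
      (gammaSheaf Γ' hΓ c.pt).obj.map (e.hom ≫ g).op t₀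
    obtain ⟨φ, s, hs⟩ := hcont.surj S.D S.c S.hc t
    refine ⟨bcObj A φ.hom, restrFib (u.map e.inv) φ.hom, s, ?_⟩
    have hη : (gammaCoc Γ' hΓ c).η.app (op (bcObj A φ.hom)) s =
        (gammaSheaf Γ' hΓ c.pt).obj.map ((uF c).map (cart A φ.hom)).op t := by
      show Γ'.map (pullback.fst (bcObj A φ.hom).V.hom (c.π.app φ.left)).op s =
        Γ'.map ((uF c).map (cart A φ.hom)).left.op t
      rw [← hs]
      refine Eq.trans ?_ (gamma_map_map Γ' (S.c.π.app φ) ((uF c).map (cart A φ.hom)).left s).symm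
      refine congrArg (fun w => Γ'.map (Quiver.Hom.op w) s) ?_
      apply pullback.hom_ext
      · show _ = (((uF c).map (cart A φ.hom)).left ≫ RichLib.LimBC.pbπ (RichLib.LimBC.ofStage D c hc A.i) A.V.hom φ) ≫ _
        rw [Category.assoc]
        erw [RichLib.LimBC.pbπ_fst, uF_map_fst]
        rfl
      · show _ = (((uF c).map (cart A φ.hom)).left ≫ RichLib.LimBC.pbπ (RichLib.LimBC.ofStage D c hc A.i) A.V.hom φ) ≫ _
        rw [Category.assoc]
        erw [RichLib.LimBC.pbπ_snd, pullback.lift_snd_assoc]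
        exact pullback.condition
    rw [hη]
    show germ ξ (gammaSheaf Γ' hΓ c.pt) _ _ ((gammaSheaf Γ' hΓ c.pt).obj.map ((uF c).map (cart A φ.hom)).op t) = _
    rw [germ_res_apply, show Fib.map ((uF c).map (cart A φ.hom)) (restrFib (u.map e.inv) φ.hom) = u.map e.inv from
      restrFib_map _ _, germ_res_apply]
    refine congrArg (fun w => germ ξ (gammaSheaf Γ' hΓ c.pt) U₀ w t₀) (Fib.ext ?_)
    show (u.hom ≫ e.inv.left) ≫ (e.hom ≫ g).left = u.hom ≫ g.left
    rw [Category.assoc]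
    refine congrArg (u.hom ≫ ·) ?_
    exact congrArg (fun w : U ⟶ U₀ => w.left) (e.inv_hom_id_assoc g)
  · obtain ⟨U₁, g₁, v₁, hv₁, he⟩ := (germ_eq_iff (A := AddCommGrpCat.{u + 1}) (F := gammaSheaf Γ' hΓ c.pt) ξ
      ((uF c).obj A) z ((gammaCoc Γ' hΓ c).η.app (op A) s) 0).1 (h.trans (map_zero _).symm)
    obtain ⟨U, g, v, hU, rfl⟩ := exists_affine_below' ξ U₁ v₁
    obtain ⟨B', hB'c, hB'q, ⟨e⟩⟩ := exists_obj hc U
    obtain ⟨k, a, b, m, hm⟩ := exists_hom hc B' A (e.hom ≫ g ≫ g₁)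
    haveI := isIso_uF_cart (c := c) B' a
    let f : bcObj B' a ⟶ A := (incl D k).map m ≫ cart A b
    have hf : (uF c).map f = (uF c).map (cart B' a) ≫ e.hom ≫ g ≫ g₁ := ((uF c).map_comp _ _).trans hm
    let B := bcObj B' a
    haveI : CompactSpace B.V.left := compactSpace_bcObj B' a
    haveI : QuasiSeparatedSpace B.V.left := quasiSeparatedSpace_bcObj B' a
    have h0 : Γ'.map (pullback.fst B.V.hom (c.π.app B.i)).op (Γ'.map f.g.op s) = 0 := by
      show (gammaCoc Γ' hΓ c).η.app (op B) ((gammaTot Γ' hΓ D).obj.map f.op s) = 0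
      rw [(gammaCoc Γ' hΓ c).η_nat, hf, op_comp, op_comp, op_comp]
      show (gammaSheaf Γ' hΓ c.pt).obj.map _ _ = 0
      simp only [Functor.map_comp, ConcreteCategory.comp_apply]
      rw [he, map_zero, map_zero, map_zero, map_zero]
    let S := sysOf hc B
    haveI : ∀ (φ ψ : Over B.i) (f : φ ⟶ ψ), IsAffineHom (S.D.map f) := fun φ ψ f => S.affine_map f
    haveI : ∀ φ : Over B.i, CompactSpace (S.D.obj φ) := fun φ => compactSpace_bcObj B φ.hom
    haveI : ∀ φ : Over B.i, QuasiSeparatedSpace (S.D.obj φ) := fun φ => quasiSeparatedSpace_bcObj B φ.hom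
    let φ₀ : Over B.i := Over.mk (𝟙 B.i)
    obtain ⟨φ, w, hw⟩ := hcont.inj S.D S.c S.hc φ₀ (Γ'.map (cart B φ₀.hom).g.op (Γ'.map f.g.op s)) (by
      refine (gamma_map_map Γ' (cart B φ₀.hom).g (S.c.π.app φ₀) (Γ'.map f.g.op s)).trans ?_
      refine Eq.trans ?_ h0
      refine congrArg (fun w => Γ'.map (Quiver.Hom.op w) (Γ'.map f.g.op s)) ?_
      exact RichLib.LimBC.pbπ_fst (RichLib.LimBC.ofStage D c hc B.i) B.V.hom φ₀)
    refine ⟨bcObj B φ.hom, cart B φ.hom ≫ f, restrFib (v.map (e.inv ≫ inv ((uF c).map (cart B' a)))) φ.hom, ?_, ?_⟩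
    · rw [(uF c).map_comp, hf, ← hv₁]
      refine Eq.trans ?_ (show Fib.map ((uF c).map (cart B' a) ≫ e.hom ≫ g ≫ g₁)
        (v.map (e.inv ≫ inv ((uF c).map (cart B' a)))) = (v.map g).map g₁ from ?_)
      · refine Eq.trans ?_ (congrArg (Fib.map ((uF c).map (cart B' a) ≫ e.hom ≫ g ≫ g₁)) (restrFib_map _ φ.hom))
        exact Fib.ext (Category.assoc _ _ _).symm
      · refine Fib.ext ?_
        show (v.hom ≫ (e.inv ≫ inv ((uF c).map (cart B' a))).left) ≫ ((uF c).map (cart B' a) ≫ e.hom ≫ g ≫ g₁).left =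
          (v.hom ≫ g.left) ≫ g₁.left
        rw [Category.assoc, Category.assoc]
        refine congrArg (v.hom ≫ ·) ?_
        refine congrArg (fun w : U ⟶ (uF c).obj A => w.left) (?_ : (e.inv ≫ inv ((uF c).map (cart B' a))) ≫
          ((uF c).map (cart B' a) ≫ e.hom ≫ g ≫ g₁) = g ≫ g₁)
        simp
    · replace hw := (gamma_map_map Γ' (cart B φ₀.hom).g (S.D.map w) (Γ'.map f.g.op s)).symm.trans hw
      show Γ'.map ((cart B φ.hom).g ≫ f.g).op s = 0
      rw [← gamma_map_map]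
      refine Eq.trans ?_ hw
      refine congrArg (fun w => Γ'.map (Quiver.Hom.op w) (Γ'.map f.g.op s)) ?_
      exact (RichLib.LimBC.pbMap_fst (RichLib.LimBC.ofStage D c hc B.i) B.V.hom w).symm

end EtContLib
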