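import Groth.Agent.EtContLib.Gamma

/-!
# Functions and units commute with affine limits
-/

set_option autoImplicit false
set_option linter.unusedSectionVars false
set_option linter.style.haveILetI false
set_option backward.isDefEq.respectTransparency false
set_option backward.isDefEq.respectTransparency.types false
set_option synthInstance.maxHeartbeats 400000
set_option maxHeartbeats 1000000

universe u

open CategoryTheory CategoryTheory.Limits AlgebraicGeometry Opposite

noncomputable section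

namespace EtContLib

variable {J : Type u} [SmallCategory J] [IsCofiltered J] (E : J ⥤ Scheme.{u}) (e : Cone E) (he : IsLimit e)
  [∀ (i j : J) (f : i ⟶ j), IsAffineHom (E.map f)] [∀ j, CompactSpace (E.obj j)]
  [∀ j, QuasiSeparatedSpace (E.obj j)]

include he in
theorem exists_appTop (t : Γ(e.pt, ⊤)) : ∃ (j : J) (s : Γ(E.obj j, ⊤)), (e.π.app j).appTop s = t := by
  haveI : ∀ {i j : J} (f : i ⟶ j), IsAffineHom (E.map f) := fun f => inferInstance
  obtain ⟨hcc⟩ := nonempty_isColimit_Γ_mapCocone E e he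
  obtain ⟨j, s, hs⟩ := Concrete.isColimit_exists_rep _ hcc t
  exact ⟨j.unop, s, hs⟩

include he in
theorem exists_appTop_eq (j : J) (s s' : Γ(E.obj j, ⊤)) (h : (e.π.app j).appTop s = (e.π.app j).appTop s') :
    ∃ (k : J) (a : k ⟶ j), (E.map a).appTop s = (E.map a).appTop s' := by
  haveI : ∀ {i j : J} (f : i ⟶ j), IsAffineHom (E.map f) := fun f => inferInstance
  obtain ⟨hcc⟩ := nonempty_isColimit_Γ_mapCocone E e he
  obtain ⟨k, f, g, hfg⟩ := Concrete.isColimit_exists_of_rep_eq (E.op ⋙ Scheme.Γ) hcc (i := op j) (j := op j) s s' h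
  refine ⟨IsCofiltered.eq f.unop g.unop, IsCofiltered.eqHom f.unop g.unop ≫ f.unop, ?_⟩
  have h' := congrArg (E.map (IsCofiltered.eqHom f.unop g.unop)).appTop hfg
  have key : ∀ (q : k.unop ⟶ j) (y : Γ(E.obj j, ⊤)),
      (E.map (IsCofiltered.eqHom f.unop g.unop ≫ q)).appTop y =
        (E.map (IsCofiltered.eqHom f.unop g.unop)).appTop ((E.map q).appTop y) := fun q y => by
    rw [E.map_comp, Scheme.Hom.comp_appTop, ConcreteCategory.comp_apply]
  refine (key f.unop s).trans (h'.trans ?_)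
  conv_rhs => rw [IsCofiltered.eq_condition f.unop g.unop]
  exact (key g.unop s').symm

theorem isCont_ΓAdd : IsCont EtCoh.ΓAdd.{u} := by
  refine ⟨fun {J} _ _ E e he _ _ _ t => ?_, fun {J} _ _ E e he _ _ _ j s h => ?_⟩
  · obtain ⟨j, s, hs⟩ := exists_appTop E e he (ULift.down t)
    exact ⟨j, ULift.up s, congrArg ULift.up hs⟩
  · obtain ⟨k, a, ha⟩ := exists_appTop_eq E e he j (ULift.down s) 0
      ((congrArg ULift.down h).trans (map_zero _).symm)
    exact ⟨k, a, congrArg ULift.up (ha.trans (map_zero _))⟩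

theorem isCont_ΓUnits : IsCont EtCoh.ΓUnits.{u} := by
  refine ⟨fun {J} _ _ E e he _ _ _ t => ?_, fun {J} _ _ E e he _ _ _ j s h => ?_⟩
  · let u : Γ(e.pt, ⊤)ˣ := Additive.toMul (ULift.down t)
    obtain ⟨i, x, hx⟩ := exists_appTop E e he (u : Γ(e.pt, ⊤))
    obtain ⟨i', y, hy⟩ := exists_appTop E e he ((u⁻¹ : Γ(e.pt, ⊤)ˣ) : Γ(e.pt, ⊤))
    obtain ⟨k, a, a', -⟩ := IsCofilteredOrEmpty.cone_objs i i'
    let x₁ := (E.map a).appTop x
    let y₁ := (E.map a').appTop y
    have hπ : ∀ {i k : J} (a : k ⟶ i) (z : Γ(E.obj i, ⊤)),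
        (e.π.app k).appTop ((E.map a).appTop z) = (e.π.app i).appTop z := fun a z => by
      rw [← ConcreteCategory.comp_apply, ← Scheme.Hom.comp_appTop, e.w a]
      rfl
    have h1 : (e.π.app k).appTop (x₁ * y₁) = (e.π.app k).appTop 1 := by
      rw [map_mul, map_one, hπ, hπ, hx, hy, Units.mul_inv]
    obtain ⟨l, b, hb⟩ := exists_appTop_eq E e he k _ _ h1
    rw [map_mul, map_one] at hb
    let v : Γ(E.obj l, ⊤)ˣ := Units.mkOfMulEqOne _ _ hb
    refine ⟨l, ULift.up (Additive.ofMul v), congrArg ULift.up (congrArg Additive.ofMul (Units.ext ?_))⟩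
    show (e.π.app l).appTop ((E.map b).appTop ((E.map a).appTop x)) = (u : Γ(e.pt, ⊤))
    rw [hπ, hπ, hx]
  · let v : Γ(E.obj j, ⊤)ˣ := Additive.toMul (ULift.down s)
    have h1 : (e.π.app j).appTop (v : Γ(E.obj j, ⊤)) = (e.π.app j).appTop 1 := by
      rw [map_one]
      exact congrArg Units.val (congrArg Additive.toMul (congrArg ULift.down h))
    obtain ⟨k, a, ha⟩ := exists_appTop_eq E e he j _ _ h1
    refine ⟨k, a, congrArg ULift.up (congrArg Additive.ofMul (Units.ext ?_))⟩
    show (E.map a).appTop (v : Γ(E.obj j, ⊤)) = 1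
    rw [ha, map_one]

end EtContLib
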