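import Groth.Agent.EtContLib.Idem
import Groth.Agent.EtContLib.Colim

/-!
# Limits of systems of images whose inverse images form a colimit
-/

set_option autoImplicit false
set_option linter.unusedSectionVars false
set_option linter.style.haveILetI false
set_option backward.isDefEq.respectTransparency false
set_option backward.isDefEq.respectTransparency.types false
set_option synthInstance.maxHeartbeats 400000
set_option maxHeartbeats 1000000

universe u

open CategoryTheory CategoryTheory.Limits CategoryTheory.Abelian AlgebraicGeometry Opposite DescSecLib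
open Groth.Agent.EtShLib

noncomputable section

namespace EtContLib

variable {I : Type u} [SmallCategory I] [IsCofiltered I] {D : I ⥤ Scheme.{u}} {c : Cone D}

theorem PreSys.isLim_coc (R : PreSys D) (G : EtCoh.Ab c.pt)
    (ψ : ∀ i, R.F i ⟶ (EtCoh.push (c.π.app i)).obj G)
    (hψ : ∀ {k j : I} (a : k ⟶ j), R.τ a ≫ (EtCoh.push (D.map a)).map (ψ k) =
      ψ j ≫ (etPc (c.π.app k) (D.map a) (c.π.app j) (c.w a)).app G)
    (K : Iᵒᵖ ⥤ EtCoh.Ab c.pt) (cc : Cocone K) (hcc : IsColimit cc) (θ : cc.pt ⟶ G) [IsIso θ]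
    (lm : ∀ i, R.F i ⟶ (EtCoh.push (c.π.app i)).obj (K.obj (op i)))
    [∀ i, IsIso (adjL (c.π.app i) (lm i))]
    (hlm : ∀ i, lm i ≫ (EtCoh.push (c.π.app i)).map (cc.ι.app (op i) ≫ θ) = ψ i)
    (htr : ∀ {k i : I} (a : k ⟶ i), R.τ a ≫ (EtCoh.push (D.map a)).map (lm k) =
      (lm i ≫ (EtCoh.push (c.π.app i)).map (K.map a.op)) ≫
        (etPc (c.π.app k) (D.map a) (c.π.app i) (c.w a)).app (K.obj (op k))) :
    (R.coc G ψ hψ).IsLim := by
  have h1 : ∀ i, R.eps i ≫ lm i = lm i := fun i => by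
    have hK : lm i ≫ (EtCoh.push (c.π.app i)).map (K.map (𝟙 i).op) = lm i := by
      rw [op_id, K.map_id, CategoryTheory.Functor.map_id, Category.comp_id]
    show (R.τ (𝟙 i) ≫ rho (R.F i)) ≫ lm i = lm i
    rw [Category.assoc, ← rho_naturality, ← Category.assoc, htr (𝟙 i), hK, Category.assoc, pc_ret, Category.comp_id]
  have hinc : ∀ i, IsIso ((EtCoh.pull (c.π.app i)).map (R.inc i)) := fun i => by
    have h2 : (EtCoh.pull (c.π.app i)).map (R.eps i) = 𝟙 _ := by
      rw [← cancel_mono (adjL (c.π.app i) (lm i)), Category.id_comp]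
      refine Eq.trans ?_ (congrArg (adjL (c.π.app i)) (h1 i))
      rw [adjL, adjL, Adjunction.homEquiv_naturality_left_symm]
    refine ⟨(EtCoh.pull (c.π.app i)).map (R.prj i), ?_, ?_⟩
    · rw [← Functor.map_comp, R.inc_prj, CategoryTheory.Functor.map_id]
    · rw [← Functor.map_comp, R.prj_inc, h2]
  let φ' : ∀ i, (fib i).obj R.sys.toSheaf ⟶ (EtCoh.push (c.π.app i)).obj (K.obj (op i)) := fun i =>
    (R.sys.fibIso i).hom ≫ R.inc i ≫ lm i
  haveI : ∀ i, IsIso (adjL (c.π.app i) (φ' i)) := fun i => by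
    haveI := hinc i
    rw [adjL, Adjunction.homEquiv_naturality_left_symm, Adjunction.homEquiv_naturality_left_symm]
    infer_instance
  refine isLim_of_colimit _ K cc hcc θ φ' (fun i => ?_) (fun {k i} a => ?_)
  · refine Sheaf.hom_ext (NatTrans.ext ?_)
    funext V
    show (𝟙 _ ≫ (R.inc i).hom.app V ≫ (lm i).hom.app V) ≫ _ = (R.inc i ≫ ψ i).hom.app V
    rw [← hlm i, Category.id_comp, Category.assoc]
    rfl
  · show trans R.sys.toSheaf a ≫ (EtCoh.push (D.map a)).map ((R.sys.fibIso k).hom ≫ R.inc k ≫ lm k) = _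
    rw [Functor.map_comp, ← Category.assoc, R.sys.trans_fibIso a, Category.assoc, Functor.map_comp,
      ← Category.assoc (R.sys.τ a)]
    show (R.sys.fibIso i).hom ≫ ((R.inc i ≫ R.τ a ≫ (EtCoh.push (D.map a)).map (R.prj k)) ≫
      (EtCoh.push (D.map a)).map (R.inc k)) ≫ (EtCoh.push (D.map a)).map (lm k) = _
    rw [R.inc_τ, Category.assoc]
    refine (congrArg (fun t => (R.sys.fibIso i).hom ≫ R.inc i ≫ t) (htr a)).trans ?_
    simp only [φ', Category.assoc]

end EtContLib
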