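import Groth.Agent.EtContLib.Idem
import Groth.Agent.EtContLib.Colim

/-!
# Systems indexed by a directed preorder, given by maps out of inverse images
-/

set_option autoImplicit false
set_option linter.unusedSectionVars false
set_option linter.style.haveILetI false
set_option backward.isDefEq.respectTransparency false
set_option backward.isDefEq.respectTransparency.types false
set_option synthInstance.maxHeartbeats 400000
set_option maxHeartbeats 1000000

universe u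

open CategoryTheory CategoryTheory.Limits CategoryTheory.Abelian AlgebraicGeometry Opposite DescSecLib
open Groth.Agent.EtShLib

noncomputable section

namespace EtContLib

theorem c_eq_inv {A B C : Scheme.{u}} (a : A ⟶ B) (b : B ⟶ C) (c : A ⟶ C) (w : a ≫ b = c) (F : EtCoh.Ab C) :
    (etSys.c a b c w).app F = ((EtCore.pullCongr w.symm ≪≫ EtCore.pullComp a b).app F).inv := by
  rw [← EtSliceLib.pullComp_inv_eq a b c w F]
  subst w
  simp [EtCore.pullCongr]

variable {ι : Type u} [Preorder ι] (Xs : ιᵒᵖ ⥤ Scheme.{u})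

theorem c_pullTrans {i j k : ι} (hij : i ≤ j) (hjk : j ≤ k)
    (w : Xs.map (homOfLE hjk).op ≫ Xs.map (homOfLE hij).op = Xs.map (homOfLE (hij.trans hjk)).op)
    (F : EtCoh.Ab (Xs.obj (op i))) {M : EtCoh.Ab (Xs.obj (op k))}
    (t : (EtCoh.pull (Xs.map (homOfLE hjk).op)).obj ((EtCoh.pull (Xs.map (homOfLE hij).op)).obj F) ⟶ M) :
    t = (etSys.c (Xs.map (homOfLE hjk).op) (Xs.map (homOfLE hij).op) (Xs.map (homOfLE (hij.trans hjk)).op) w).app F ≫
      (EtLim.pullTrans Xs hij hjk).hom.app F ≫ t := by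
  rw [c_eq_inv]
  exact (Iso.inv_hom_id_assoc ((EtLim.pullTrans Xs hij hjk).app F) t).symm

theorem c_pullTransCone (c : Cone Xs) {i j : ι} (hij : i ≤ j) (F : EtCoh.Ab (Xs.obj (op i))) {M : EtCoh.Ab c.pt}
    (t : (EtCoh.pull (c.π.app (op j))).obj ((EtCoh.pull (Xs.map (homOfLE hij).op)).obj F) ⟶ M) :
    t = (etSys.c (c.π.app (op j)) (Xs.map (homOfLE hij).op) (c.π.app (op i)) (c.w (homOfLE hij).op)).app F ≫
      (EtLim.pullTransCone Xs c hij).hom.app F ≫ t := by
  rw [c_eq_inv]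
  exact (Iso.inv_hom_id_assoc ((EtLim.pullTransCone Xs c hij).app F) t).symm

variable (F : ∀ i : ι, EtCoh.Ab (Xs.obj (op i)))
  (φ : ∀ ⦃i j : ι⦄ (h : i ≤ j), (EtCoh.pull (Xs.map (homOfLE h).op)).obj (F i) ⟶ F j)

/-- The adjoint transition map. -/
def tau {k j : ιᵒᵖ} (a : k ⟶ j) : F j.unop ⟶ (EtCoh.push (Xs.map a)).obj (F k.unop) :=
  ((EtCoh.pullPushAdj (Xs.map a)).homEquiv (F j.unop) (F k.unop)) (φ (leOfHom a.unop))

theorem adjL_tau {k j : ιᵒᵖ} (a : k ⟶ j) : adjL (Xs.map a) (tau Xs F φ a) = φ (leOfHom a.unop) :=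
  Equiv.symm_apply_apply _ _

variable (hφ : ∀ ⦃i j k : ι⦄ (hij : i ≤ j) (hjk : j ≤ k),
  φ (hij.trans hjk) = (EtLim.pullTrans Xs hij hjk).hom.app (F i) ≫
    (EtCoh.pull (Xs.map (homOfLE hjk).op)).map (φ hij) ≫ φ hjk)

/-- The system. -/
def preSys : PreSys Xs where
  F j := F j.unop
  τ a := tau Xs F φ a
  comp := fun {l k j} e a b hb => by
    refine adjL_comp _ _ _ _ _ _ _ ?_
    rw [adjL_tau, adjL_tau, adjL_tau]
    exact (c_pullTrans Xs (i := j.unop) (j := k.unop) (k := l.unop) (leOfHom a.unop) (leOfHom e.unop)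
      ((Xs.map_comp e a).symm.trans (congrArg Xs.map hb)) (F j.unop)
      ((EtCoh.pull (Xs.map e)).map (φ (leOfHom a.unop)) ≫ φ (leOfHom e.unop))).trans
        (congrArg _ (hφ (leOfHom a.unop) (leOfHom e.unop)).symm)

variable {Xs F φ}
variable (c : Cone Xs) (G : ι ⥤ EtCoh.Ab c.pt) (ψ : ∀ i : ι, (EtCoh.pull (c.π.app (op i))).obj (F i) ≅ G.obj i)
  (hψ : ∀ ⦃i j : ι⦄ (hij : i ≤ j), (ψ i).hom ≫ G.map (homOfLE hij) =
    (EtLim.pullTransCone Xs c hij).hom.app (F i) ≫ (EtCoh.pull (c.π.app (op j))).map (φ hij) ≫ (ψ j).hom)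

/-- The adjoint map to the colimit. -/
def psi (i : ιᵒᵖ) : F i.unop ⟶ (EtCoh.push (c.π.app i)).obj (colimit G) :=
  ((EtCoh.pullPushAdj (c.π.app i)).homEquiv (F i.unop) (colimit G)) ((ψ i.unop).hom ≫ colimit.ι G i.unop)

theorem adjL_psi (i : ιᵒᵖ) : adjL (c.π.app i) (psi c G ψ i) = (ψ i.unop).hom ≫ colimit.ι G i.unop :=
  Equiv.symm_apply_apply _ _

include hψ in
theorem key_psi {k j : ιᵒᵖ} (a : k ⟶ j) :
    (EtCoh.pull (c.π.app k)).map (adjL (Xs.map a) (tau Xs F φ a)) ≫ (ψ k.unop).hom =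
      (etSys.c (c.π.app k) (Xs.map a) (c.π.app j) (c.w a)).app (F j.unop) ≫ (ψ j.unop).hom ≫ G.map a.unop := by
  rw [adjL_tau]
  exact (c_pullTransCone Xs c (i := j.unop) (j := k.unop) (leOfHom a.unop) (F j.unop)
    ((EtCoh.pull (c.π.app k)).map (φ (leOfHom a.unop)) ≫ (ψ k.unop).hom)).trans
      (congrArg _ (hψ (leOfHom a.unop)).symm)

include hψ in
theorem psi_compat {k j : ιᵒᵖ} (a : k ⟶ j) : tau Xs F φ a ≫ (EtCoh.push (Xs.map a)).map (psi c G ψ k) =
    psi c G ψ j ≫ (etPc (c.π.app k) (Xs.map a) (c.π.app j) (c.w a)).app (colimit G) := by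
  refine adjL_comp _ _ _ _ _ _ _ ?_
  rw [adjL_psi, adjL_psi, ← Category.assoc, key_psi c G ψ hψ a, Category.assoc, Category.assoc, colimit.w]

variable [Nonempty ι] [IsDirected ι (· ≤ ·)]

include hφ hψ in
theorem isLim_colimit : ((preSys Xs F φ hφ).coc (colimit G) (psi c G ψ) (fun {k j} a => psi_compat c G ψ hψ a)).IsLim := by
  let R := preSys Xs F φ hφ
  let K : (ιᵒᵖ)ᵒᵖ ⥤ EtCoh.Ab c.pt := (opOpEquivalence ι).functor ⋙ G
  let lm : ∀ i : ιᵒᵖ, R.F i ⟶ (EtCoh.push (c.π.app i)).obj (K.obj (op i)) := fun i =>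
    ((EtCoh.pullPushAdj (c.π.app i)).homEquiv (F i.unop) (G.obj i.unop)) (ψ i.unop).hom
  have hl : ∀ i, adjL (c.π.app i) (lm i) = (ψ i.unop).hom := fun i => Equiv.symm_apply_apply _ _
  let φ' : ∀ i : ιᵒᵖ, (fib i).obj R.sys.toSheaf ⟶ (EtCoh.push (c.π.app i)).obj (K.obj (op i)) := fun i =>
    (R.sys.fibIso i).hom ≫ R.inc i ≫ lm i
  have hinc : ∀ i : ιᵒᵖ, IsIso ((EtCoh.pull (c.π.app i)).map (R.inc i)) := fun i => by
    have e0 : adjL (Xs.map (𝟙 i)) (tau Xs F φ (𝟙 i)) = φ (le_refl i.unop) := adjL_tau Xs F φ (𝟙 i)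
    have h1 : R.eps i ≫ lm i = lm i := by
      show (tau Xs F φ (𝟙 i) ≫ rho (F i.unop)) ≫ lm i = lm i
      rw [Category.assoc, ← rho_naturality, ← Category.assoc,
        adjL_comp (c.π.app i) (Xs.map (𝟙 i)) (c.π.app i) (c.w (𝟙 i)) (tau Xs F φ (𝟙 i)) (lm i) (lm i) (by
          rw [hl]
          refine (key_psi c G ψ hψ (𝟙 i)).trans ?_
          show _ ≫ _ ≫ G.map (𝟙 i.unop) = _
          rw [G.map_id, Category.comp_id, hl]), Category.assoc, pc_ret, Category.comp_id]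
    have h2 : (EtCoh.pull (c.π.app i)).map (R.eps i) = 𝟙 _ := by
      rw [← cancel_mono (ψ i.unop).hom, Category.id_comp]
      refine Eq.trans ?_ (hl i)
      refine Eq.trans ?_ (congrArg (adjL (c.π.app i)) h1)
      rw [adjL, Adjunction.homEquiv_naturality_left_symm]
      exact congrArg (_ ≫ ·) (hl i).symm
    refine ⟨(EtCoh.pull (c.π.app i)).map (R.prj i), ?_, ?_⟩
    · rw [← Functor.map_comp, R.inc_prj, CategoryTheory.Functor.map_id]
    · rw [← Functor.map_comp, R.prj_inc, h2]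
  haveI : ∀ i, IsIso (adjL (c.π.app i) (φ' i)) := fun i => by
    haveI := hinc i
    rw [adjL, Adjunction.homEquiv_naturality_left_symm, Adjunction.homEquiv_naturality_left_symm]
    rw [show ((EtCoh.pullPushAdj (c.π.app i)).homEquiv _ _).symm (lm i) = (ψ i.unop).hom from hl i]
    infer_instance
  let cc : Cocone K := (colimit.cocone G).whisker (opOpEquivalence ι).functor
  let θ : cc.pt ⟶ colimit G := 𝟙 (colimit G)
  haveI : IsIso θ := IsIso.id (colimit G)
  refine isLim_of_colimit _ K cc ((colimit.isColimit G).whiskerEquivalence (opOpEquivalence ι)) θ φ' (fun i => ?_) (fun {k i} a => ?_)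
  · rw [show cc.ι.app (op i) ≫ θ = colimit.ι G i.unop from Category.comp_id _]
    refine Sheaf.hom_ext (NatTrans.ext ?_)
    funext V
    have h3 : lm i ≫ (EtCoh.push (c.π.app i)).map (colimit.ι G i.unop) = psi c G ψ i :=
      (Adjunction.homEquiv_naturality_right _ _ _).symm
    show (𝟙 _ ≫ (R.inc i).hom.app V ≫ (lm i).hom.app V) ≫ _ = (R.inc i ≫ psi c G ψ i).hom.app V
    rw [← h3, Category.id_comp, Category.assoc]
    rfl
  · have h4 : tau Xs F φ a ≫ (EtCoh.push (Xs.map a)).map (lm k) =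
        (lm i ≫ (EtCoh.push (c.π.app i)).map (G.map a.unop)) ≫
          (etPc (c.π.app k) (Xs.map a) (c.π.app i) (c.w a)).app (G.obj k.unop) := by
      refine adjL_comp _ _ _ _ _ _ _ ?_
      rw [hl, key_psi c G ψ hψ a]
      refine congrArg (_ ≫ ·) ?_
      refine Eq.trans ?_ (Adjunction.homEquiv_naturality_right_symm (EtCoh.pullPushAdj (c.π.app i)) (lm i) (G.map a.unop)).symm
      exact congrArg (· ≫ G.map a.unop) (hl i).symm
    show trans R.sys.toSheaf a ≫ (EtCoh.push (Xs.map a)).map ((R.sys.fibIso k).hom ≫ R.inc k ≫ lm k) = _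
    rw [Functor.map_comp, ← Category.assoc, R.sys.trans_fibIso a, Category.assoc, Functor.map_comp,
      ← Category.assoc (R.sys.τ a)]
    show (R.sys.fibIso i).hom ≫ ((R.inc i ≫ R.τ a ≫ (EtCoh.push (Xs.map a)).map (R.prj k)) ≫
      (EtCoh.push (Xs.map a)).map (R.inc k)) ≫ (EtCoh.push (Xs.map a)).map (lm k) = _
    rw [R.inc_τ, Category.assoc]
    refine (congrArg (fun t => (R.sys.fibIso i).hom ≫ R.inc i ≫ t) h4).trans ?_
    simp only [φ', Category.assoc]
    rfl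

end EtContLib
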