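import Groth.Agent.EtShLib.Stalk
import Mathlib.CategoryTheory.Abelian.GrothendieckAxioms.Sheaf
import Mathlib.CategoryTheory.Sites.Abelian
import Mathlib.CategoryTheory.Sites.CoverPreserving
import Mathlib.CategoryTheory.Sites.EpiMono
import Mathlib.AlgebraicGeometry.PullbackCarrier

/-!
# The total étale site of a diagram of schemes
-/

set_option autoImplicit false
set_option linter.unusedSectionVars false
set_option linter.style.haveILetI false
set_option backward.isDefEq.respectTransparency false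
set_option backward.isDefEq.respectTransparency.types false
set_option synthInstance.maxHeartbeats 400000
set_option maxHeartbeats 1000000

universe u

open CategoryTheory CategoryTheory.Limits AlgebraicGeometry Opposite
open Groth.Agent.EtShLib

noncomputable section

namespace EtContLib

theorem mem_of_points {X : Scheme.{u}} {U : X.Etale} (S : Sieve U)
    (h : ∀ y : U.left, ∃ (W : X.Etale) (g : W ⟶ U), S g ∧ ∃ w : W.left, g.left.base w = y) :
    S ∈ X.smallEtaleTopology U := by
  choose W g hg w hw using h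
  refine X.smallEtaleTopology.superset_covering (S := Sieve.ofArrows W g) ?_ ?_
  · rw [Sieve.ofArrows, Sieve.generate_le_iff]
    rintro _ _ ⟨y⟩
    exact hg y
  · rw [Scheme.ofArrows_mem_smallEtaleTopology_iff]
    exact Set.eq_univ_of_forall fun y => Set.mem_iUnion.2 ⟨y, w y, hw y⟩

theorem points_of_mem {X : Scheme.{u}} {U : X.Etale} {S : Sieve U} (hS : S ∈ X.smallEtaleTopology U) (y : U.left) :
    ∃ (W : X.Etale) (g : W ⟶ U), S g ∧ ∃ w : W.left, g.left.base w = y := by
  obtain ⟨Ω, _, _, ξ, v, hv⟩ := exists_geometric y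
  obtain ⟨W, g, hg, w, hw⟩ := (pt ξ).jointly_surjective S hS v
  exact ⟨W, g, hg, Fib.pt w, (congrArg (fun t : Fib ξ U => t.pt) hw).trans hv⟩

variable {I : Type u} [SmallCategory I] (D : I ⥤ Scheme.{u})

/-- An object of the total étale site of a diagram. -/
structure Obj : Type (u + 1) where
  /-- The stage. -/
  i : I
  /-- The étale scheme over the stage. -/
  V : (D.obj i).Etale

variable {D}

/-- A morphism of the total étale site. -/
@[ext]
structure Hom (A B : Obj D) : Type u where
  /-- The morphism of stages. -/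
  a : A.i ⟶ B.i
  /-- The morphism of schemes. -/
  g : A.V.left ⟶ B.V.left
  w : g ≫ B.V.hom = A.V.hom ≫ D.map a

instance : Category.{u} (Obj D) where
  Hom := Hom
  id A := ⟨𝟙 _, 𝟙 _, by simp⟩
  comp f h := ⟨f.a ≫ h.a, f.g ≫ h.g, by rw [Category.assoc, h.w, ← Category.assoc, f.w, Category.assoc, D.map_comp]⟩
  id_comp f := Hom.ext (Category.id_comp _) (Category.id_comp _)
  comp_id f := Hom.ext (Category.comp_id _) (Category.comp_id _)
  assoc f g h := Hom.ext (Category.assoc _ _ _) (Category.assoc _ _ _)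

theorem hom_ext' {A B : Obj D} {f f' : A ⟶ B} (ha : f.a = f'.a) (hg : f.g = f'.g) : f = f' := Hom.ext ha hg

@[simp] theorem comp_a {A B C : Obj D} (f : A ⟶ B) (h : B ⟶ C) : (f ≫ h).a = f.a ≫ h.a := rfl
@[simp] theorem comp_g {A B C : Obj D} (f : A ⟶ B) (h : B ⟶ C) : (f ≫ h).g = f.g ≫ h.g := rfl
@[simp] theorem id_a (A : Obj D) : Hom.a (𝟙 A) = 𝟙 A.i := rfl
@[simp] theorem id_g (A : Obj D) : Hom.g (𝟙 A) = 𝟙 A.V.left := rfl

variable (D) in
/-- The inclusion of the étale site of a stage. -/
abbrev incl (i : I) : (D.obj i).Etale ⥤ Obj D where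
  obj V := ⟨i, V⟩
  map {V W} g := ⟨𝟙 i, g.left, (MorphismProperty.Over.w g).trans ((congrArg (V.hom ≫ ·) (D.map_id i)).trans (Category.comp_id _)).symm⟩
  map_id V := hom_ext' rfl rfl
  map_comp g h := hom_ext' (Category.comp_id _).symm rfl

/-- The base change of an object to an earlier stage. -/
abbrev bcObj {k : I} (A : Obj D) (a : k ⟶ A.i) : Obj D := ⟨k, (EtCoh.bc (D.map a)).obj A.V⟩

/-- The projection of the base change. -/
def cart {k : I} (A : Obj D) (a : k ⟶ A.i) : bcObj A a ⟶ A :=
  ⟨a, pullback.fst A.V.hom (D.map a), pullback.condition⟩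

/-- The factorisation through the base change. -/
def toBc {B A : Obj D} (f : B ⟶ A) : B.V ⟶ (EtCoh.bc (D.map f.a)).obj A.V :=
  MorphismProperty.Over.homMk (pullback.lift f.g B.V.hom f.w) (pullback.lift_snd _ _ _)

theorem toBc_cart {B A : Obj D} (f : B ⟶ A) : (incl D B.i).map (toBc f) ≫ cart A f.a = f :=
  hom_ext' (Category.id_comp _) (pullback.lift_fst _ _ _)

variable (D) in
/-- Fibrewise étale coverings. -/
def topology : GrothendieckTopology (Obj D) where
  sieves A := {S | ∀ y : A.V.left, ∃ (W : (D.obj A.i).Etale) (g : W ⟶ A.V),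
    S ((incl D A.i).map g) ∧ ∃ w : W.left, g.left.base w = y}
  top_mem' A y := ⟨A.V, 𝟙 _, trivial, y, rfl⟩
  pullback_stable' := fun A B S f hS y => by
    obtain ⟨W, g, hg, w, hw⟩ := hS (f.g.base y)
    haveI : AlgebraicGeometry.Etale g.left := etale_left g
    haveI : AlgebraicGeometry.Etale B.V.hom := B.V.prop
    obtain ⟨z, hz, -⟩ := Scheme.Pullback.exists_preimage_pullback (f := f.g) (g := g.left) y w hw.symm
    let Z : (D.obj B.i).Etale := MorphismProperty.Over.mk ⊤ (pullback.fst f.g g.left ≫ B.V.hom)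
      (inferInstance : AlgebraicGeometry.Etale (pullback.fst f.g g.left ≫ B.V.hom))
    let p : Z ⟶ B.V := MorphismProperty.Over.homMk (pullback.fst f.g g.left) rfl
    let q : (⟨B.i, Z⟩ : Obj D) ⟶ ⟨A.i, W⟩ := ⟨f.a, pullback.snd f.g g.left, by
      show pullback.snd f.g g.left ≫ W.hom = (pullback.fst f.g g.left ≫ B.V.hom) ≫ D.map f.a
      rw [Category.assoc, ← f.w, ← Category.assoc, pullback.condition, Category.assoc]
      exact congrArg (pullback.snd f.g g.left ≫ ·) (MorphismProperty.Over.w g).symm⟩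
    refine ⟨Z, p, ?_, z, hz⟩
    show S ((incl D B.i).map p ≫ f)
    rw [show (incl D B.i).map p ≫ f = q ≫ (incl D A.i).map g from hom_ext'
      ((Category.id_comp _).trans (Category.comp_id _).symm) pullback.condition]
    exact S.downward_closed hg q
  transitive' := fun A S hS R hR y => by
    obtain ⟨W, g, hg, w, hw⟩ := hS y
    obtain ⟨Z, q, hq, z, hz⟩ := hR hg w
    refine ⟨Z, q ≫ g, ?_, z, ?_⟩
    · rw [Functor.map_comp]; exact hq
    · rw [← hw, ← hz]; rfl

theorem functorPullback_mem {i : I} {V : (D.obj i).Etale} {S : Sieve ((incl D i).obj V)}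
    (hS : S ∈ topology D ((incl D i).obj V)) : S.functorPullback (incl D i) ∈ (D.obj i).smallEtaleTopology V :=
  mem_of_points _ hS

instance isContinuous_incl (i : I) :
    (incl D i).IsContinuous (D.obj i).smallEtaleTopology (topology D) := by
  refine Functor.isContinuous_of_coverPreserving ⟨?_⟩ ⟨fun {U S} hS y => ?_⟩
  · intro ℱ Z T x hx Y₁ Y₂ A f₁ f₂ g₁ g₂ hg₁ hg₂ e
    haveI := etale_left g₁
    haveI := etale_left g₂
    haveI : AlgebraicGeometry.Etale Y₁.hom := Y₁.prop
    have ea : f₁.a = f₂.a := (Category.comp_id f₁.a).symm.trans ((congrArg Hom.a e).trans (Category.comp_id f₂.a))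
    have eg : f₁.g ≫ g₁.left = f₂.g ≫ g₂.left := congrArg Hom.g e
    let P : (D.obj i).Etale := MorphismProperty.Over.mk ⊤ (pullback.fst g₁.left g₂.left ≫ Y₁.hom)
      (inferInstance : AlgebraicGeometry.Etale (pullback.fst g₁.left g₂.left ≫ Y₁.hom))
    let p₁ : P ⟶ Y₁ := MorphismProperty.Over.homMk (pullback.fst g₁.left g₂.left) rfl
    let p₂ : P ⟶ Y₂ := MorphismProperty.Over.homMk (pullback.snd g₁.left g₂.left) (by
      show pullback.snd g₁.left g₂.left ≫ Y₂.hom = pullback.fst g₁.left g₂.left ≫ Y₁.hom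
      exact (congrArg (pullback.snd g₁.left g₂.left ≫ ·) (MorphismProperty.Over.w g₂).symm).trans
        ((pullback.condition_assoc _).symm.trans
          (congrArg (pullback.fst g₁.left g₂.left ≫ ·) (MorphismProperty.Over.w g₁))))
    let l : A ⟶ (incl D i).obj P := ⟨f₁.a, pullback.lift f₁.g f₂.g eg, by
      show pullback.lift f₁.g f₂.g eg ≫ pullback.fst g₁.left g₂.left ≫ Y₁.hom = _
      rw [pullback.lift_fst_assoc]
      exact f₁.w⟩
    have h₁ : f₁ = l ≫ (incl D i).map p₁ :=
      hom_ext' (Category.comp_id _).symm (pullback.lift_fst _ _ eg).symm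
    have h₂ : f₂ = l ≫ (incl D i).map p₂ :=
      hom_ext' (ea.symm.trans (Category.comp_id _).symm) (pullback.lift_snd _ _ eg).symm
    have hP : p₁ ≫ g₁ = p₂ ≫ g₂ := MorphismProperty.Over.Hom.ext pullback.condition
    have hxx := congrArg (ℱ.obj.map l.op) (hx p₁ p₂ hg₁ hg₂ hP)
    rw [h₁, h₂, op_comp, op_comp, Functor.map_comp_apply, Functor.map_comp_apply]
    exact hxx
  · obtain ⟨W, g, hg, w, hw⟩ := points_of_mem hS y
    exact ⟨W, g, Sieve.image_mem_functorPushforward _ _ hg, w, hw⟩

/-- Restriction to the étale site of a stage. -/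
abbrev fib (i : I) : Sheaf (topology D) AddCommGrpCat.{u + 1} ⥤ EtCoh.Ab (D.obj i) :=
  (incl D i).sheafPushforwardContinuous AddCommGrpCat.{u + 1} _ _

instance (i : I) : (fib (D := D) i).Additive := ⟨fun {X Y f g} => rfl⟩

theorem mono_fib {P Q : Sheaf (topology D) AddCommGrpCat.{u + 1}} (φ : P ⟶ Q) [Mono φ] (i : I) :
    Mono ((fib i).map φ) := by
  haveI : Mono φ.hom := inferInstanceAs (Mono ((sheafToPresheaf _ _).map φ))
  haveI : ∀ V, Mono (φ.hom.app V) := fun V => inferInstanceAs (Mono (((evaluation _ _).obj V).map φ.hom))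
  haveI : ∀ V, Mono (((fib i).map φ).hom.app V) := fun V => inferInstanceAs (Mono (φ.hom.app (op ⟨i, V.unop⟩)))
  haveI : Mono ((fib i).map φ).hom := NatTrans.mono_of_mono_app _
  exact (sheafToPresheaf _ _).mono_of_mono_map ‹Mono ((fib i).map φ).hom›

theorem epi_fib {P Q : Sheaf (topology D) AddCommGrpCat.{u + 1}} (φ : P ⟶ Q) [Epi φ] (i : I) :
    Epi ((fib i).map φ) := by
  haveI : Sheaf.IsLocallySurjective φ := (Sheaf.isLocallySurjective_iff_epi' _ φ).2 inferInstance
  refine (Sheaf.isLocallySurjective_iff_epi' _ _).1 ⟨fun {V} s => ?_⟩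
  refine GrothendieckTopology.superset_covering _ (fun W g hg => ?_)
    (functorPullback_mem (Presheaf.imageSieve_mem (topology D) φ.hom (U := op ((incl D i).obj V)) s))
  exact hg

theorem shortExact_fib {S : ShortComplex (Sheaf (topology D) AddCommGrpCat.{u + 1})} (hS : S.ShortExact) (i : I) :
    (S.map (fib i)).ShortExact := by
  haveI := hS.mono_f
  haveI := hS.epi_g
  haveI : Mono (S.map (fib i)).f := mono_fib S.f i
  haveI : Epi (S.map (fib i)).g := epi_fib S.g i
  refine { exact := ShortComplex.exact_of_f_is_kernel _ ?_ }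
  haveI : PreservesFiniteLimits (fib (D := D) i) := by
    haveI : PreservesFiniteLimits (fib (D := D) i ⋙ sheafToPresheaf _ _) :=
      show PreservesFiniteLimits (sheafToPresheaf _ _ ⋙ (Functor.whiskeringLeft _ _ _).obj (incl D i).op) from
        comp_preservesFiniteLimits _ _
    exact preservesFiniteLimits_of_reflects_of_preserves _ (sheafToPresheaf _ _)
  exact KernelFork.mapIsLimit _ hS.fIsKernel (fib i)

instance : IsGrothendieckAbelian.{u + 1} (Sheaf (topology D) AddCommGrpCat.{u + 1}) := by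
  have : EssentiallySmall.{u + 1} (Obj D) := inferInstance
  exact Sheaf.isGrothendieckAbelian_of_essentiallySmall _ _

example : EnoughInjectives (Sheaf (topology D) AddCommGrpCat.{u + 1}) := inferInstance
example : HasSheafify (topology D) AddCommGrpCat.{u + 1} := inferInstance

end EtContLib
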